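import Groth.Agent.H21Split.TypeR.Cell
import Groth.Agent.H21Split.TypeR.Generate
import Groth.Agent.H21Split.Bru.Fibre
import Groth.Agent.H21Split.Bru.Borel
import Groth.Agent.H21Split.R3.Cell
import Groth.Agent.H21Split.Red0.BaseExists
import Groth.Agent.S1618
import Groth.Agent.H21Split.TypeR.CellDim

/-!
The dimension of a cell with diagonalisable middle part and of a group with such an open cell.
-/

open CategoryTheory MonoidalCategory CartesianMonoidalCategory MonObj GrpObj AlgebraicGeometry
open CategoryTheory.Limits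

universe u

set_option autoImplicit false
set_option backward.isDefEq.respectTransparency false
set_option linter.style.haveILetI false
set_option linter.unusedSectionVars false
set_option synthInstance.maxHeartbeats 400000
set_option maxHeartbeats 1000000

noncomputable section

namespace Groth.Agent.H21Split.Corad

open Groth.Agent.H21Split.TypeR

variable {S : Scheme.{u}} (L : Type) [AddCommGroup L] [Module.Free ℤ L] [Module.Finite ℤ L]

theorem isAffineHom_borelDomDS (k : ℕ) : IsAffineHom ((Red.DS S L) ⊗ RedSub.pow (Red.Ga S) k).hom :=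
  R3.isAffineHom_tensor' (H21Diag.isAffineHom_DS S L) (R3.isAffineHom_pow R3.isAffineHom_Ga k)

variable {K : Type u} [Field K] (g : Spec (CommRingCat.of K) ⟶ S)

/-- the coordinate ring of the torus times a power of the additive group -/
theorem nonempty_crdEquivDS (k : ℕ) :
    Nonempty (Crd g ((Red.DS S L) ⊗ RedSub.pow (Red.Ga S) k) ≃ₐ[K] MvPolynomial (Fin k) (MonoidAlgebra K (Multiplicative L))) := by
  haveI := isAffineHom_borelDomDS (S := S) L k
  let X := (Red.DS S L) ⊗ RedSub.pow (Red.Ga S) k
  let U := MvPolynomial (Fin k) (MonoidAlgebra K (Multiplicative L))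
  let χ0 : Multiplicative L →* U := MvPolynomial.C.toMonoidHom.comp (MonoidAlgebra.of K (Multiplicative L))
  let u0 : pt g U ⟶ X := lift (ds g χ0) (gas g fun i => MvPolynomial.X i)
  obtain ⟨φu, hφu⟩ := fn_surjective (B := Crd g X) g (G := X) (AlgHom.id K _)
  obtain ⟨χ, hχ⟩ := ds_surjective g (φu ≫ fst _ _)
  let ψ : U →ₐ[K] Crd g X :=
    { MvPolynomial.eval₂Hom (MonoidAlgebra.lift K (Crd g X) (Multiplicative L) χ).toRingHom
        (gvs g (φu ≫ snd _ _)) with
      commutes' := fun r => by
        change MvPolynomial.eval₂Hom _ _ (algebraMap K U r) = _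
        rw [IsScalarTower.algebraMap_apply K (MonoidAlgebra K (Multiplicative L)) U]
        change MvPolynomial.eval₂Hom _ _ (MvPolynomial.C (algebraMap K _ r)) = _
        rw [MvPolynomial.eval₂Hom_C]
        exact AlgHom.commutes _ r }
  have hψC : ∀ x, ψ (MvPolynomial.C x) = MonoidAlgebra.lift K (Crd g X) (Multiplicative L) χ x :=
    fun x => MvPolynomial.eval₂Hom_C _ _ x
  have hψX : ∀ i, ψ (MvPolynomial.X i) = gvs g (φu ≫ snd _ _) i := fun i => MvPolynomial.eval₂Hom_X' _ _ i
  have hψo : ψ.toRingHom.toMonoidHom.comp χ0 = χ :=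
    MonoidHom.ext fun x => (hψC _).trans (MonoidAlgebra.lift_of _ _)
  have e : pmap g ψ ≫ u0 = φu := by
    refine CartesianMonoidalCategory.hom_ext _ _ ?_ ?_
    · simp only [u0, Category.assoc, lift_fst]
      rw [pmap_ds, hψo, hχ]
    · simp only [u0, Category.assoc, lift_snd]
      rw [pmap_gas, funext hψX, gas_gvs]
  let F := fn g u0
  have h1 : ψ.comp F = AlgHom.id K _ := by rw [← fn_pmap, e, hφu]
  have e' : pmap g F ≫ φu = u0 := fn_injective g (by rw [fn_pmap, hφu, AlgHom.comp_id])
  have h2 : F.comp ψ = AlgHom.id K U := by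
    have hfst := congrArg (fun m => m ≫ fst _ _) e'
    simp only [u0, Category.assoc, lift_fst] at hfst
    rw [← hχ, pmap_ds] at hfst
    have hC : F.toRingHom.toMonoidHom.comp χ = χ0 := ds_injective g hfst
    have hsnd := congrArg (fun m => gvs g (m ≫ snd _ _)) e'
    simp only [u0, Category.assoc, lift_snd, gvs_gas] at hsnd
    rw [← gas_gvs g (φu ≫ snd _ _), pmap_gas, gvs_gas] at hsnd
    have e1 : (F.comp ψ).comp (IsScalarTower.toAlgHom K (MonoidAlgebra K (Multiplicative L)) U) =
        (IsScalarTower.toAlgHom K (MonoidAlgebra K (Multiplicative L)) U) := by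
      refine (MonoidAlgebra.lift K U (Multiplicative L)).symm.injective (MonoidHom.ext fun m => ?_)
      change F (ψ (MvPolynomial.C (MonoidAlgebra.of K (Multiplicative L) m))) =
        MvPolynomial.C (MonoidAlgebra.of K (Multiplicative L) m)
      rw [hψC, MonoidAlgebra.lift_of]
      exact DFunLike.congr_fun hC m
    refine AlgHom.coe_ringHom_injective (MvPolynomial.ringHom_ext (fun x => DFunLike.congr_fun e1 x) fun i => ?_)
    change F (ψ (MvPolynomial.X i)) = MvPolynomial.X i
    rw [hψX]
    exact congrFun hsnd i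
  exact ⟨AlgEquiv.ofAlgHom F ψ h2 h1⟩

/-- the dimension of the torus times a power of the additive group -/
theorem dim_borelDomDS (k : ℕ) :
    topologicalKrullDim ↥(Red.bc g ((Red.DS S L) ⊗ RedSub.pow (Red.Ga S) k)).left =
      ringKrullDim (MonoidAlgebra K (Multiplicative L)) + (k : WithBot ℕ∞) := by
  haveI := isAffineHom_borelDomDS (S := S) L k
  haveI : Monoid.FG (Multiplicative L) := by
    haveI : AddGroup.FG L := Module.Finite.iff_addGroup_fg.mp inferInstance
    exact AddMonoid.fg_iff_mul_fg.mp (AddGroup.fg_iff_addMonoid_fg.mp inferInstance)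
  haveI : Algebra.FiniteType K (MonoidAlgebra K (Multiplicative L)) := inferInstance
  haveI : IsNoetherianRing (MonoidAlgebra K (Multiplicative L)) := Algebra.FiniteType.isNoetherianRing K _
  obtain ⟨eU⟩ := nonempty_crdEquivDS (S := S) L g k
  haveI := isAffine_pb g (G := (Red.DS S L) ⊗ RedSub.pow (Red.Ga S) k)
  change topologicalKrullDim ↥(pullback ((Red.DS S L) ⊗ RedSub.pow (Red.Ga S) k).hom g) = _
  rw [(Scheme.homeoOfIso (pullback ((Red.DS S L) ⊗ RedSub.pow (Red.Ga S) k).hom g).isoSpec).isHomeomorph.topologicalKrullDim_eq]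
  refine (PrimeSpectrum.topologicalKrullDim_eq_ringKrullDim _).trans ?_
  change ringKrullDim (Crd g ((Red.DS S L) ⊗ RedSub.pow (Red.Ga S) k)) = _
  rw [ringKrullDim_eq_of_ringEquiv eU.toRingEquiv, MvPolynomial.ringKrullDim_of_isNoetherianRing, Nat.card_fin]

/-- the cell is the torus times a power of the additive group -/
theorem dim_cellDomDS (n m : ℕ) :
    topologicalKrullDim ↥(Red.bc g (RedSub.pow (Red.Ga S) n ⊗ ((Red.DS S L) ⊗ RedSub.pow (Red.Ga S) m))).left =
      ringKrullDim (MonoidAlgebra K (Multiplicative L)) + ((n + m : ℕ) : WithBot ℕ∞) := by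
  rw [← dim_borelDomDS (S := S) L g (n + m)]
  let C := RedSub.pow (Red.Ga S) n ⊗ ((Red.DS S L) ⊗ RedSub.pow (Red.Ga S) m)
  let B := (Red.DS S L) ⊗ RedSub.pow (Red.Ga S) (n + m)
  let a : C ⟶ B := lift (snd _ _ ≫ fst _ _)
    (tuple (n + m) (Fin.append (fun i => fst _ _ ≫ pr (Red.Ga S) n i) fun j => snd _ _ ≫ snd _ _ ≫ pr (Red.Ga S) m j))
  let b : B ⟶ C := lift (tuple n fun i => snd _ _ ≫ pr (Red.Ga S) (n + m) (Fin.castAdd m i))
    (lift (fst _ _) (tuple m fun j => snd _ _ ≫ pr (Red.Ga S) (n + m) (Fin.natAdd n j)))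
  have hab : a ≫ b = 𝟙 C := by
    refine CartesianMonoidalCategory.hom_ext _ _ (pow_hom_ext n fun i => ?_) (CartesianMonoidalCategory.hom_ext _ _ ?_ (pow_hom_ext m fun i => ?_))
    · simp only [a, b, Category.assoc, lift_fst_assoc, tuple_pr, lift_snd_assoc, Fin.append_left, Category.id_comp]
    · simp only [a, b, Category.assoc, lift_snd_assoc, lift_fst, Category.id_comp]
    · simp only [a, b, Category.assoc, lift_snd_assoc, tuple_pr, Fin.append_right, Category.id_comp]
  have hba : b ≫ a = 𝟙 B := by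
    refine CartesianMonoidalCategory.hom_ext _ _ ?_ (pow_hom_ext (n + m) fun i => ?_)
    · simp only [a, b, Category.assoc, lift_fst, lift_snd_assoc, Category.id_comp]
    · induction i using Fin.addCases with
      | left i => simp only [a, b, Category.assoc, lift_snd_assoc, tuple_pr, Fin.append_left, lift_fst_assoc, Category.id_comp]
      | right i => simp only [a, b, Category.assoc, lift_snd_assoc, tuple_pr, Fin.append_right, Category.id_comp]
  let e : Red.bc g C ≅ Red.bc g B := (Over.pullback g).mapIso ⟨a, b, hab, hba⟩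
  exact (Scheme.homeoOfIso ((Over.forget _).mapIso e)).isHomeomorph.topologicalKrullDim_eq

/-- a group with an open cell has the dimension of the cell -/
theorem dim_of_cellDS {H : Over S} [GrpObj H] [Smooth H.hom] (hconn : RedSub.HasConnectedFibres H) {n m : ℕ}
    (c : RedSub.pow (Red.Ga S) n ⊗ ((Red.DS S L) ⊗ RedSub.pow (Red.Ga S) m) ⟶ H) [IsOpenImmersion c.left] :
    topologicalKrullDim ↥(Red.bc g H).left =
      ringKrullDim (MonoidAlgebra K (Multiplicative L)) + ((n + m : ℕ) : WithBot ℕ∞) := by
  rw [← dim_cellDomDS (S := S) L g n m]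
  haveI := geometricallyIrreducible_of_connected hconn
  haveI : GeometricallyIrreducible (Red.bc g H).hom :=
    inferInstanceAs (GeometricallyIrreducible (pullback.snd H.hom g))
  haveI : IrreducibleSpace (Red.bc g H).left :=
    GeometricallyIrreducible.irreducibleSpace_of_subsingleton (Red.bc g H).hom
  haveI : Smooth (Red.bc g H).hom := MorphismProperty.pullback_snd (P := @Smooth) _ _ inferInstance
  haveI hc : IsOpenImmersion ((Over.pullback g).map c).left :=
    MorphismProperty.overPullbackMap (P := @IsOpenImmersion) _ _ inferInstance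
  letI : (Red.bc g H).left.Over (Spec (CommRingCat.of K)) := ⟨(Red.bc g H).hom⟩
  haveI : LocallyOfFiniteType ((Red.bc g H).left ↘ Spec (CommRingCat.of K)) :=
    inferInstanceAs (LocallyOfFiniteType (Red.bc g H).hom)
  have hne : ((((Over.pullback g).map c).left.opensRange : (Red.bc g H).left.Opens) : Set (Red.bc g H).left).Nonempty := by
    obtain ⟨o⟩ : Nonempty (Red.bc g (RedSub.pow (Red.Ga S) n ⊗ ((Red.DS S L) ⊗ RedSub.pow (Red.Ga S) m))).left := by
      let o : 𝟙_ (Over S) ⟶ RedSub.pow (Red.Ga S) n ⊗ ((Red.DS S L) ⊗ RedSub.pow (Red.Ga S) m) :=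
        lift (tuple n fun _ => (1 : 𝟙_ (Over S) ⟶ Red.Ga S))
          (lift (1 : 𝟙_ (Over S) ⟶ (Red.DS S L)) (tuple m fun _ => (1 : 𝟙_ (Over S) ⟶ Red.Ga S)))
      obtain ⟨z, -, -⟩ := Scheme.Pullback.exists_preimage_pullback
        (f := (RedSub.pow (Red.Ga S) n ⊗ ((Red.DS S L) ⊗ RedSub.pow (Red.Ga S) m)).hom) (g := g)
        (o.left.base (g.base (IsLocalRing.closedPoint K))) (IsLocalRing.closedPoint K)
        ((Scheme.Hom.comp_apply _ _ _).symm.trans (congrArg (fun q => q (g.base (IsLocalRing.closedPoint K))) (Over.w o)))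
      exact ⟨z⟩
    exact ⟨_, o, rfl⟩
  rw [← Groth.Agent.S1618.result K (Red.bc g H).left _ hne]
  exact (Scheme.homeoOfIso (((Over.pullback g).map c).left.isoOpensRange)).isHomeomorph.topologicalKrullDim_eq.symm


end Groth.Agent.H21Split.Corad
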