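import Groth.Agent.H21Split.Corad.Main
import Groth.Agent.H21Split.Corad.CellDimDS
import Groth.Agent.H21Split.Red0.GeomSplit
import Groth.Agent.H21Split.Centre
import Groth.Agent.H19Grp.NormalPts
import Groth.Agent.H20Conj.Split
import Groth.Agent.H21Mono.ClosedImmersion
import Mathlib.LinearAlgebra.RootSystem.Finite.Nondegenerate
import Mathlib.Algebra.Category.Grp.Injective
import Mathlib.GroupTheory.Divisible

/-!
The geometric fibres of the kernel of the projection modulo coroots: reductivity and the maximal torus.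
-/

open CategoryTheory MonoidalCategory CartesianMonoidalCategory MonObj GrpObj AlgebraicGeometry
open CategoryTheory.Limits
open Groth.Agent.H21Split.TypeR

universe u

set_option autoImplicit false
set_option backward.isDefEq.respectTransparency false
set_option linter.style.haveILetI false
set_option linter.unusedSectionVars false
set_option synthInstance.maxHeartbeats 400000
set_option maxHeartbeats 1000000

noncomputable section

namespace Groth.Agent.H21Split.Corad

variable {S : Scheme.{u}}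

/-- diagonalisable groups are commutative -/
theorem ds_comm (L : Type) [AddCommGroup L] {X : Over S} (a b : X ⟶ Red.DS S L) : a * b = b * a := by
  refine hom_ext_pt fun R _ g j => ?_
  obtain ⟨χ, hχ⟩ := ds_surjective g (j ≫ a)
  obtain ⟨ψ, hψ⟩ := ds_surjective g (j ≫ b)
  rw [MonObj.comp_mul, MonObj.comp_mul, ← hχ, ← hψ, ← ds_mul, ← ds_mul, mul_comm]

theorem kill_div {C : Type*} [Category C] [CartesianMonoidalCategory C] {X G H : C} [GrpObj G] [GrpObj H] (f : G ⟶ H)
    [IsMonHom f] (a b : X ⟶ G) (h : a ≫ f = b ≫ f) : (a * b⁻¹) ≫ f = 1 := by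
  rw [MonObj.mul_comp, GrpObj.inv_comp, h, mul_inv_cancel]

/-- the kernel of a homomorphism -/
theorem exists_kernel_over {G H : Over S} [GrpObj G] [GrpObj H] (f : G ⟶ H) [IsMonHom f] :
    ∃ (K : Over S) (_ : GrpObj K) (k : K ⟶ G), IsMonHom k ∧ AlgGrp.IsKernel k f := by
  let P : Over S := pullback f η[H]
  let k : P ⟶ G := pullback.fst f η[H]
  have hk : IsPullback k (toUnit P) f η[H] := by
    rw [toUnit_unique (toUnit P) (pullback.snd f η[H])]
    exact IsPullback.of_hasPullback f η[H]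
  haveI : Mono η[H] := ⟨fun a b _ => toUnit_unique a b⟩
  haveI : Mono k := inferInstanceAs (Mono (pullback.fst f η[H]))
  have hkill : ∀ (X : Over S) (a : X ⟶ P), (a ≫ k) ≫ f = 1 := fun X a => by
    rw [Category.assoc, hk.w, ← Category.assoc, toUnit_unique (a ≫ toUnit P) (toUnit X), ← Hom.one_def]
  have hlift : ∀ (X : Over S) (z : X ⟶ G), z ≫ f = 1 → ∃ a, a ≫ k = z := fun X z hz =>
    ⟨hk.lift z (toUnit X) (by rw [hz, Hom.one_def]), hk.lift_fst _ _ _⟩
  obtain ⟨g, hg⟩ := H21Diag.exists_grpObj_of_mono k (hlift _ 1 (MonObj.one_comp f))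
    (fun X a b => hlift _ _ (by rw [MonObj.mul_comp, hkill, hkill, _root_.mul_one]))
    (fun X a => hlift _ _ (by rw [GrpObj.inv_comp, hkill, inv_one]))
  exact ⟨P, g, k, hg, hk⟩

/-- subgroups killed by and killing the same homomorphisms to commutative groups are kernels of both -/
theorem isKernel_of_kills {G C H K D' : Over S} [GrpObj G] [GrpObj C] [GrpObj H] (f₀ : G ⟶ C) (f : G ⟶ H) (k : K ⟶ G)
    (d : D' ⟶ G) (hd : AlgGrp.IsKernel d f₀) (hk : AlgGrp.IsKernel k f) (hd' : d ≫ f = 1) (hk' : k ≫ f₀ = 1) :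
    AlgGrp.IsKernel d f := by
  haveI : Mono η[C] := ⟨fun a b _ => toUnit_unique a b⟩
  haveI : Mono d := ⟨fun a b h => hd.hom_ext h (toUnit_unique _ _)⟩
  let m : K ⟶ D' := hd.lift k (toUnit K) (by rw [hk', Hom.one_def])
  have hm : m ≫ d = k := hd.lift_fst _ _ _
  refine IsPullback.of_isLimit' ⟨by rw [hd', Hom.one_def]⟩ (PullbackCone.IsLimit.mk _
    (fun s => hk.lift s.fst s.snd s.condition ≫ m) (fun s => ?_) (fun s => toUnit_unique _ _) fun s l h1 _ => ?_)
  · rw [Category.assoc, hm]
    exact hk.lift_fst _ _ _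
  · rw [← cancel_mono d, Category.assoc, hm, h1]
    exact (hk.lift_fst _ _ _).symm

variable {G : Over S} [GrpObj G] (D : Red.SplitRed G) (N : AddSubgroup D.M)
  (hN : ∀ x : D.M, x ∈ N ↔ ∀ a : D.idx, D.P.coroot a x = 0)

include hN in
/-- the characters killed by the coroots meet the root lattice trivially -/
theorem eq_zero_of_mem_closure {x : D.M} (hx : x ∈ N) (hs : x ∈ AddSubgroup.closure (Set.range D.P.root)) : x = 0 := by
  haveI := D.fintypeIdx
  refine D.P.eq_zero_of_mem_rootSpan_of_rootForm_self_eq_zero ?_ ?_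
  · exact (AddSubgroup.closure_le (K := (D.P.rootSpan ℤ).toAddSubgroup)).mpr (fun y hy => Submodule.subset_span hy) hs
  · rw [RootPairing.rootForm_apply_apply]
    refine Finset.sum_eq_zero fun a _ => ?_
    have h : D.P.coroot' a x = 0 := by
      have := (hN x).mp hx a
      simpa [RootPairing.coroot', RootPairing.root', D.pairing_eq] using this
    rw [h, zero_mul]

include hN in
/-- characters of the part killed by coroots extend trivially on the roots -/
theorem exists_char {Ω : Type u} [Field Ω] [IsAlgClosed Ω] (χN : Multiplicative ↥N →* Ω) :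
    ∃ χ : Multiplicative D.M →* Ω, χ.comp (AddMonoidHom.toMultiplicative N.subtype) = χN ∧
      ∀ a : D.idx, χ (Multiplicative.ofAdd (D.P.root a)) = 1 := by
  let Q := AddSubgroup.closure (Set.range D.P.root)
  let inc : ↥N →+ D.M ⧸ Q := (QuotientAddGroup.mk' Q).comp N.subtype
  have hinc : Function.Injective inc := by
    rw [injective_iff_map_eq_zero]
    exact fun x hx => Subtype.ext (eq_zero_of_mem_closure D N hN x.2 ((QuotientAddGroup.eq_zero_iff _).mp hx))
  letI : DivisibleBy (Additive Ωˣ) ℤ := divisibleByOfSMulRightSurj _ _ fun {k} hk x => by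
    obtain ⟨z, hz⟩ := IsAlgClosed.exists_pow_nat_eq (((x.toMul : Ωˣ) ^ k.sign : Ωˣ) : Ω) (Int.natAbs_pos.mpr hk)
    have hz0 : z ≠ 0 := by
      rintro rfl
      rw [zero_pow (Int.natAbs_pos.mpr hk).ne'] at hz
      exact Units.ne_zero _ hz.symm
    refine ⟨Additive.ofMul (Units.mk0 z hz0), Additive.toMul.injective ?_⟩
    change (Units.mk0 z hz0) ^ k = x.toMul
    have h1 : (Units.mk0 z hz0) ^ k.natAbs = x.toMul ^ k.sign := Units.ext (by simpa using hz)
    calc (Units.mk0 z hz0) ^ k = ((Units.mk0 z hz0) ^ k.natAbs) ^ k.sign := by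
          rw [← zpow_natCast, ← zpow_mul, mul_comm, Int.sign_mul_natAbs]
      _ = x.toMul := by
          rw [h1, ← zpow_mul]
          rcases lt_or_gt_of_ne hk with h | h
          · rw [Int.sign_eq_neg_one_of_neg h]; simp
          · rw [Int.sign_eq_one_of_pos h]; simp
  obtain ⟨e, he⟩ := (Module.Baer.of_divisible (Additive Ωˣ)).extension_property_addMonoidHom inc hinc
    (MonoidHom.toAdditiveRight χN.toHomUnits)
  refine ⟨(Units.coeHom Ω).comp (AddMonoidHom.toMultiplicativeLeft (e.comp (QuotientAddGroup.mk' Q))),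
    MonoidHom.ext fun x => ?_, fun a => ?_⟩
  · have := DFunLike.congr_fun he x.toAdd
    change ((Additive.toMul (e (inc x.toAdd)) : Ωˣ) : Ω) = χN x
    change e (inc x.toAdd) = _ at this
    rw [this]
    rfl
  · change ((Additive.toMul (e (QuotientAddGroup.mk' Q (D.P.root a))) : Ωˣ) : Ω) = 1
    rw [show QuotientAddGroup.mk' Q (D.P.root a) = 0 from
      (QuotientAddGroup.eq_zero_iff _).mpr (AddSubgroup.subset_closure ⟨a, rfl⟩), map_zero]
    rfl

variable (f : G ⟶ Red.DS S ↥N) [IsMonHom f] (hi : D.i ≫ f = coradT D N) (hu : ∀ c, D.u c ≫ f = 1)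
  {D' : Over S} [GrpObj D'] (d : D' ⟶ G) [IsMonHom d] (hk : AlgGrp.IsKernel d f)
include hN hi hu hk

/-- points over algebraically closed fields are products of a point of the kernel and a central torus point -/
theorem exists_decomp {Ω : Type u} [Field Ω] [IsAlgClosed Ω] (g : Spec (CommRingCat.of Ω) ⟶ S) (z : pt g Ω ⟶ G) :
    ∃ (y : pt g Ω ⟶ D') (χ : Multiplicative D.M →* Ω),
      z = (y ≫ d) * tPt g D χ ∧ ∀ a : D.idx, χ (Multiplicative.ofAdd (D.P.root a)) = 1 := by
  obtain ⟨χN, hχN⟩ := ds_surjective g (z ≫ f)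
  obtain ⟨χ, hχ, hr⟩ := exists_char D N hN χN
  obtain ⟨y, hy⟩ := lift_k D N hN f hi hu d hk (z * (tPt g D χ)⁻¹) (kill_div f _ _ (by
    rw [show tPt g D χ ≫ f = (ds g χN : pt g Ω ⟶ Red.DS S ↥N) by
      rw [tPt, Category.assoc, Category.assoc, hi, coradT, reassoc_of% (split_inv_hom D), ds_DSmap, hχ]]
    rw [hχN]))
  exact ⟨y, χ, by rw [hy]; group, hr⟩

/-- **Reductivity of the fibres of the kernel.** -/
theorem isReductiveOver_fibre [IsClosedImmersion d.left] [Smooth D'.hom] (hconn : RedSub.HasConnectedFibres D') (s : S) :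
    Red.IsReductiveOver (AlgebraicClosure (S.residueField s)) (Red.geomFibre s D') := by
  let Ω := AlgebraicClosure (S.residueField s)
  let g := Red.geomPt s
  obtain ⟨hGa, hGs, -, hrad⟩ := D.reductive.2.2 s
  haveI := hGa
  haveI := hGs
  let ds' := (Over.pullback g).map d
  haveI : IsMonHom ds' := H21Diag.isMonHom_bcMap g d
  haveI : IsClosedImmersion ds'.left := H21Red0.isClosedImmersion_bcMap g d
  haveI : Smooth (Red.geomFibre s D').hom := MorphismProperty.pullback_snd (P := @Smooth) _ _ inferInstance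
  haveI : IsAffine (Red.geomFibre s D').left := isAffine_of_isAffineHom ds'.left
  haveI := geometricallyIrreducible_of_connected hconn
  haveI : GeometricallyIrreducible (Red.geomFibre s D').hom :=
    inferInstanceAs (GeometricallyIrreducible (pullback.snd D'.hom g))
  haveI : IrreducibleSpace (Red.geomFibre s D').left :=
    GeometricallyIrreducible.irreducibleSpace_of_subsingleton (Red.geomFibre s D').hom
  refine ⟨inferInstance, inferInstance, IrreducibleSpace.connectedSpace _, fun U _ u _ hu' hUs hUc hUn hns => ?_⟩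
  haveI := hu'
  haveI := hUs
  haveI : IsClosedImmersion (u ≫ ds').left := by rw [Over.comp_left]; infer_instance
  refine hrad U (u ≫ ds') inferInstance hUs hUc (H19Grp.NormalPts.isNormalHom_of_pts _ fun g₀ n => ?_) hns
  let Φ := fibHom g Ω G
  let A := Φ g₀
  obtain ⟨y, χ, hA, hχ⟩ := exists_decomp D N hN f hi hu d hk g A
  let y₀ := (fibEquiv g Ω D').symm y
  obtain ⟨n', hn'⟩ := hUn _ y₀ n
  have hn'' := congrArg (· ≫ ds') hn'
  simp only [MonObj.mul_comp, GrpObj.inv_comp, Category.assoc] at hn''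
  refine ⟨n', ?_⟩
  rw [← hn'']
  apply (fibEquiv g Ω G).injective
  rw [← fibHom_eq, ← fibHom_eq, map_mul, map_mul, map_inv, map_mul, map_mul, map_inv]
  have h1 : Φ (y₀ ≫ ds') = y ≫ d := by
    rw [fibHom_eq, fibEquiv_comp, Equiv.apply_symm_apply]
  change A * Φ _ * A⁻¹ = Φ (y₀ ≫ ds') * Φ _ * (Φ (y₀ ≫ ds'))⁻¹
  rw [h1, hA]
  generalize Φ (n ≫ u ≫ ds') = w
  have hc : tPt g D χ * w = w * tPt g D χ := by
    have := commute_of_roots_trivial D (ds g χ ≫ D.split.inv.hom.hom) (fun a => by
      refine H21Rank1.gmFn_injective ?_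
      rw [Category.assoc, reassoc_of% (split_inv_hom D), H21Rank1.gmFn_one]
      apply (Scheme.ΓSpecIso (CommRingCat.of Ω)).commRingCatIsoToRingEquiv.injective
      rw [map_one]
      exact (gmv_chi g χ (D.P.root a)).trans (hχ a)) w
    simpa only [tPt, Category.assoc] using this
  calc (y ≫ d) * tPt g D χ * w * ((y ≫ d) * tPt g D χ)⁻¹
      = (y ≫ d) * (tPt g D χ * w * (tPt g D χ)⁻¹) * (y ≫ d)⁻¹ := by group
    _ = (y ≫ d) * w * (y ≫ d)⁻¹ := by rw [hc, mul_inv_cancel_right]

omit hN hi hu hk in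
/-- a torus over an algebraically closed field is smooth -/
theorem smooth_torus {K : Type u} [Field K] [IsAlgClosed K] (T : Over (Spec (CommRingCat.of K))) [GrpObj T]
    (hT : Red.IsTorus T) : Smooth T.hom := by
  obtain ⟨A, _, _, r, e, -, ⟨E⟩⟩ := H20Conj.exists_split T hT
  haveI : Algebra.Smooth K A := by
    haveI := smooth_monoidAlgebra K (Fin r → ℤ)
    exact Algebra.Smooth.of_equiv
      ((MonoidAlgebra.domCongr K K (MulEquiv.ulift (α := Multiplicative (Fin r → ℤ))).symm).trans
        (BialgEquiv.toAlgEquiv E).symm)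
  haveI : Smooth (Spec.map (CommRingCat.ofHom (algebraMap K A))) := by
    rw [HasRingHomProperty.Spec_iff (P := @Smooth)]
    exact RingHom.smooth_algebraMap.mpr ‹_›
  haveI : IsIso e.inv.left := ((Over.forget _).mapIso e.symm).isIso_hom
  rw [← Over.w e.inv]
  exact inferInstanceAs (Smooth (e.inv.left ≫ Spec.map (CommRingCat.ofHom (algebraMap K A))))

/-- **The smaller torus is maximal on geometric fibres.** -/
theorem isMaximal_fibre (s : S) (i' : Red.DS S (D.M ⧸ N) ⟶ D')
    (hi' : i' ≫ d = (Red.DSmap S (QuotientAddGroup.mk' N) ≫ D.split.inv.hom.hom) ≫ D.i)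
    [IsClosedImmersion i'.left]
    {T' : Over (Spec (CommRingCat.of (AlgebraicClosure (S.residueField s))))} [GrpObj T']
    (j : T' ⟶ Red.geomFibre s D') [IsMonHom j] [Mono j] (φ : Red.geomFibre s (Red.DS S (D.M ⧸ N)) ⟶ T')
    (hT' : Red.IsTorus T') (hφ : φ ≫ j = (Over.pullback (Red.geomPt s)).map i') : IsIso φ := by
  let Ω := AlgebraicClosure (S.residueField s)
  let g := Red.geomPt s
  haveI : Nonempty S := ⟨s⟩
  let E := H21Red0.geomSplit D s
  haveI := H21Red0.isReduced_of_nonempty D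
  haveI : E.P.IsReduced := ‹D.P.IsReduced›
  haveI := mono_k D N hN f hi hu d hk
  let ds' := (Over.pullback g).map d
  haveI : IsMonHom ds' := H21Diag.isMonHom_bcMap g d
  haveI : Mono ds' := H21Red0.mono_bcMap g d
  haveI := smooth_hom E
  haveI := isAffineHom_hom E
  haveI := D.finiteM
  haveI := D.freeM
  haveI hTs : Smooth T'.hom := smooth_torus T' hT'
  haveI : Smooth E.T.hom := smooth_torus E.T E.maximalTorus.2.2.1
  haveI : IsClosedImmersion φ.left := by
    haveI : Mono j.left := inferInstanceAs (Mono ((Over.forget _).map j))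
    haveI : IsClosedImmersion (φ.left ≫ j.left) := by
      rw [← Over.comp_left, hφ]
      exact H21Red0.isClosedImmersion_bcMap g i'
    exact IsClosedImmersion.of_comp φ.left j.left
  refine H19Grp.PointsDense.isIso_of_points (K := Ω) φ fun w => ?_
  obtain ⟨e, he⟩ := H19Grp.NormalPts.exists_to_Ko (k := Ω)
  let w₁ : 𝟙_ (Over (Spec (CommRingCat.of Ω))) ⟶ T' := e ≫ w
  let z : 𝟙_ (Over (Spec (CommRingCat.of Ω))) ⟶ Red.geomFibre s G := w₁ ≫ j ≫ ds'
  have hT'comm : ∀ a b : H19Grp.NormalPts.Ko Ω ⟶ T', a * b = b * a := H21Rank1.isTorus_comm hT'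
  have hconst : (toUnit E.T ≫ z) * E.i * (toUnit E.T ≫ z)⁻¹ = E.i := by
    refine H19Grp.PointsDense.hom_eq (K := Ω) _ _ fun t => ?_
    rw [MonObj.comp_mul, MonObj.comp_mul, GrpObj.comp_inv, ← Category.assoc,
      toUnit_unique (t ≫ toUnit _) (toUnit _)]
    have hw : toUnit (H19Grp.NormalPts.Ko Ω) ≫ z = w ≫ j ≫ ds' := by
      simp only [z, w₁, Category.assoc]
      rw [reassoc_of% he]
    rw [hw]
    let tb : pt g Ω ⟶ D.T := fibEquiv g Ω D.T t
    obtain ⟨y, χ, hA, hχ⟩ := exists_decomp D N hN f hi hu d hk g (tb ≫ D.i)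
    have h0 : (y ≫ d) ≫ f = 1 := kill_k D N hN f hi hu d hk y
    obtain ⟨χt, hχt⟩ := exists_tPt g D tb
    have hy : ∃ v : pt g Ω ⟶ Red.DS S (D.M ⧸ N), v ≫ i' = y := by
      have hyt : y ≫ d = (tb * (ds g χ ≫ D.split.inv.hom.hom)⁻¹) ≫ D.i := by
        haveI := D.maximalTorus.1
        rw [MonObj.mul_comp, GrpObj.inv_comp, hA]
        rw [show (ds g χ ≫ D.split.inv.hom.hom) ≫ D.i = tPt g D χ from Category.assoc _ _ _]
        group
      obtain ⟨v, hv⟩ := exists_lift_coradT D (tb * (ds g χ ≫ D.split.inv.hom.hom)⁻¹) (N := N) (by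
        rw [← hi, ← Category.assoc, ← hyt]
        exact h0)
      refine ⟨v, ?_⟩
      rw [← cancel_mono d, Category.assoc, hi', hyt, ← hv, Category.assoc, Category.assoc]
      simp only [Category.assoc]
    obtain ⟨v, hv⟩ := hy
    let v₀ := (fibEquiv g Ω (Red.DS S (D.M ⧸ N))).symm v
    have hc := hT'comm w (v₀ ≫ φ)
    have hc' := congrArg (fun x => x ≫ j ≫ ds') hc
    simp only [MonObj.mul_comp, Category.assoc] at hc'
    apply (fibEquiv g Ω G).injective
    have h2 : fibHom g Ω G (v₀ ≫ φ ≫ j ≫ ds') = y ≫ d := by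
      rw [← Category.assoc φ, hφ, ← Category.assoc, fibHom_eq, fibEquiv_comp, fibEquiv_comp,
        Equiv.apply_symm_apply, hv]
    have hc'' := congrArg (fibHom g Ω G) hc'
    rw [map_mul, map_mul, h2] at hc''
    change fibHom g Ω G _ = fibHom g Ω G _
    rw [map_mul, map_mul, map_inv]
    have h3 : fibHom g Ω G (t ≫ E.i) = (y ≫ d) * tPt g D χ := by
      rw [fibHom_eq]
      exact (fibEquiv_comp g Ω D.i t).trans hA
    generalize hW : fibHom g Ω G (w ≫ j ≫ ds') = W at hc'' ⊢
    have hcc : tPt g D χ * W = W * tPt g D χ := by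
      have := commute_of_roots_trivial D (ds g χ ≫ D.split.inv.hom.hom) (fun a => by
        refine H21Rank1.gmFn_injective ?_
        rw [Category.assoc, reassoc_of% (split_inv_hom D), H21Rank1.gmFn_one]
        apply (Scheme.ΓSpecIso (CommRingCat.of Ω)).commRingCatIsoToRingEquiv.injective
        rw [map_one]
        exact (gmv_chi g χ (D.P.root a)).trans (hχ a)) W
      simpa only [tPt, Category.assoc] using this
    rw [h3]
    calc W * ((y ≫ d) * tPt g D χ) * W⁻¹ = (W * (y ≫ d)) * (tPt g D χ) * W⁻¹ := by group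
      _ = (y ≫ d) * (W * tPt g D χ) * W⁻¹ := by rw [hc'']; group
      _ = _ := by rw [← hcc]; group
  have hacts : Acts E z (AddMonoidHom.id E.M) := fun R _ g' B _ _ χ => by
    have h := congrArg (fun x => (ds g' χ ≫ E.split.inv.hom.hom) ≫ x) hconst
    simp only [MonObj.comp_mul, GrpObj.comp_inv, Category.assoc] at h
    rw [← Category.assoc (E.split.inv.hom.hom) (toUnit E.T), ← Category.assoc (ds g' χ),
      toUnit_unique (ds g' χ ≫ E.split.inv.hom.hom ≫ toUnit E.T) (toUnit _)] at h
    exact h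
  obtain ⟨t, ht⟩ := hacts.exists_torus
  let t₁ := toUnit (H19Grp.NormalPts.Ko Ω) ≫ t
  have ht₁ : t₁ ≫ E.i = w ≫ j ≫ ds' := by
    simp only [t₁, Category.assoc, ht, z, w₁]
    rw [reassoc_of% he]
  let tb : pt g Ω ⟶ D.T := fibEquiv g Ω D.T t₁
  have hd : tb ≫ D.i = fibEquiv g Ω D' (w ≫ j) ≫ d := by
    rw [← fibEquiv_comp g Ω d (w ≫ j), Category.assoc, ← ht₁]
    exact (fibEquiv_comp g Ω D.i t₁).symm
  obtain ⟨v, hv⟩ := exists_lift_coradT D tb (N := N) (by
    rw [← hi, ← Category.assoc, hd]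
    exact kill_k D N hN f hi hu d hk _)
  refine ⟨(fibEquiv g Ω _).symm v, ?_⟩
  rw [← cancel_mono j, Category.assoc, hφ]
  apply (fibEquiv g Ω D').injective
  rw [fibEquiv_comp, Equiv.apply_symm_apply, ← cancel_mono d, ← hd, Category.assoc, hi']
  rw [← hv]
  simp only [Category.assoc]

end Groth.Agent.H21Split.Corad
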