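import Groth.Agent.S1618
import Groth.Agent.H21Split.SmoothTorus
import Mathlib.RingTheory.KrullDimension.Polynomial
import Mathlib.RingTheory.Localization.Away.Basic
import Mathlib.RingTheory.FiniteType

/-!
The dimension of the group algebra of a lattice over a field.
-/

open CategoryTheory AlgebraicGeometry

universe u

set_option autoImplicit false
set_option backward.isDefEq.respectTransparency false
set_option linter.style.haveILetI false
set_option synthInstance.maxHeartbeats 400000
set_option maxHeartbeats 1000000

noncomputable section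

namespace Groth.Agent.H21Split.Corad

/-- **The group algebra of a lattice has the rank of the lattice as dimension.** -/
theorem ringKrullDim_monoidAlgebra (K : Type u) [Field K] (L : Type) [AddCommGroup L] [Module.Free ℤ L]
    [Module.Finite ℤ L] :
    ringKrullDim (MonoidAlgebra K (Multiplicative L)) = (Module.finrank ℤ L : WithBot ℕ∞) := by
  classical
  let bq := Module.finBasis ℤ L
  set r := Module.finrank ℤ L
  let P := MvPolynomial (Fin r) K
  let A := MonoidAlgebra K (Multiplicative L)
  let π : P := ∏ i, MvPolynomial.X i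
  let W := Localization.Away π
  have hu : ∀ i, IsUnit (algebraMap P W (MvPolynomial.X i)) := fun i => by
    have h : IsUnit (algebraMap P W π) := IsLocalization.Away.algebraMap_isUnit π
    exact isUnit_of_dvd_unit (map_dvd _ (Finset.dvd_prod_of_mem _ (Finset.mem_univ i))) h
  let cl : L →ₗ[ℤ] Additive Wˣ := bq.constr ℤ fun i => Additive.ofMul (hu i).unit
  let χ : Multiplicative L →* W := (Units.coeHom W).comp (AddMonoidHom.toMultiplicativeLeft cl.toAddMonoidHom)
  let toW : A →ₐ[K] W := MonoidAlgebra.lift K W (Multiplicative L) χ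
  let e : Fin r → A := fun i => MonoidAlgebra.of K (Multiplicative L) (Multiplicative.ofAdd (bq i))
  let ev : P →ₐ[K] A := MvPolynomial.aeval e
  have hπ : IsUnit (ev π) := by
    rw [map_prod]
    refine IsUnit.prod_iff.mpr fun i _ => ?_
    rw [MvPolynomial.aeval_X]
    exact (Group.isUnit (Multiplicative.ofAdd (bq i))).map _
  let toA : W →+* A := IsLocalization.Away.lift π (g := ev.toRingHom) hπ
  have htoA : ∀ p, toA (algebraMap P W p) = ev p := fun p => IsLocalization.Away.lift_eq π hπ p
  have htoW : ∀ i, toW (e i) = algebraMap P W (MvPolynomial.X i) := fun i => by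
    refine (MonoidAlgebra.lift_of χ _).trans ?_
    change ((Additive.toMul (cl (bq i)) : Wˣ) : W) = _
    rw [Module.Basis.constr_basis]
    rfl
  have h1 : toW.toRingHom.comp toA = RingHom.id W := by
    refine IsLocalization.ringHom_ext (Submonoid.powers π) ?_
    refine MvPolynomial.ringHom_ext (fun c => ?_) fun i => ?_
    · change toW (toA (algebraMap P W (MvPolynomial.C c))) = algebraMap P W (MvPolynomial.C c)
      rw [htoA, show ev (MvPolynomial.C c) = algebraMap K A c from MvPolynomial.aeval_C e c, AlgHom.commutes]
      rfl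
    · change toW (toA (algebraMap P W (MvPolynomial.X i))) = algebraMap P W (MvPolynomial.X i)
      rw [htoA, show ev (MvPolynomial.X i) = e i from MvPolynomial.aeval_X e i, htoW]
  let toA' : W →ₐ[K] A :=
    { toA with
      commutes' := fun c => by
        change toA (algebraMap K W c) = algebraMap K A c
        rw [IsScalarTower.algebraMap_apply K P W, htoA]
        exact AlgHom.commutes ev c }
  have h2 : toA'.comp toW = AlgHom.id K A := by
    refine (MonoidAlgebra.lift K A (Multiplicative L)).symm.injective ?_
    let φ : Multiplicative L →* A := (MonoidAlgebra.lift K A (Multiplicative L)).symm (toA'.comp toW)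
    let ψ : Multiplicative L →* A := (MonoidAlgebra.lift K A (Multiplicative L)).symm (AlgHom.id K A)
    let φ' : L →+ Additive Aˣ := MonoidHom.toAdditiveRight φ.toHomUnits
    let ψ' : L →+ Additive Aˣ := MonoidHom.toAdditiveRight ψ.toHomUnits
    have h3 : φ'.toIntLinearMap = ψ'.toIntLinearMap := bq.ext fun i => by
      refine Additive.toMul.injective (Units.ext ?_)
      change toA' (toW (e i)) = e i
      rw [htoW]
      exact (htoA _).trans (MvPolynomial.aeval_X e i)
    refine MonoidHom.ext fun m => ?_
    exact congrArg (fun z : Additive Aˣ => ((Additive.toMul z : Aˣ) : A)) (LinearMap.congr_fun h3 m.toAdd)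
  let eW : W ≃+* A := RingEquiv.ofRingHom toA toW.toRingHom (RingHom.ext fun x => DFunLike.congr_fun h2 x) h1
  rw [← ringKrullDim_eq_of_ringEquiv eW]
  let f : Spec (CommRingCat.of P) ⟶ Spec (CommRingCat.of K) := Spec.map (CommRingCat.ofHom (algebraMap K P))
  letI : (Spec (CommRingCat.of P)).Over (Spec (CommRingCat.of K)) := ⟨f⟩
  haveI : LocallyOfFiniteType ((Spec (CommRingCat.of P)) ↘ Spec (CommRingCat.of K)) :=
    (HasRingHomProperty.Spec_iff (P := @LocallyOfFiniteType)).mpr
      (RingHom.finiteType_algebraMap.mpr inferInstance)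
  haveI : IrreducibleSpace ↥(Spec (CommRingCat.of P)) := inferInstanceAs (IrreducibleSpace (PrimeSpectrum P))
  have hπ0 : π ≠ 0 := Finset.prod_ne_zero_iff.mpr fun i _ => MvPolynomial.X_ne_zero i
  have hopen := Groth.Agent.S1618.result K (Spec (CommRingCat.of P)) (PrimeSpectrum.basicOpen π) (by
    by_contra hne
    have hbot : PrimeSpectrum.basicOpen π = ⊥ := TopologicalSpace.Opens.ext (Set.not_nonempty_iff_eq_empty.mp hne)
    exact hπ0 ((PrimeSpectrum.basicOpen_eq_bot_iff π).mp hbot).eq_zero)
  have hP : ringKrullDim P = (r : WithBot ℕ∞) := by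
    rw [MvPolynomial.ringKrullDim_of_isNoetherianRing, ringKrullDim_eq_zero_of_field, Nat.card_fin, zero_add]
  rw [← hP, ← PrimeSpectrum.topologicalKrullDim_eq_ringKrullDim, ← PrimeSpectrum.topologicalKrullDim_eq_ringKrullDim]
  refine Eq.trans ?_ hopen
  let h0 := PrimeSpectrum.localization_away_isOpenEmbedding W π
  refine (h0.toIsEmbedding.toHomeomorph.isHomeomorph.topologicalKrullDim_eq).trans ?_
  have he : Set.range (PrimeSpectrum.comap (algebraMap P W)) = (PrimeSpectrum.basicOpen π : Set (PrimeSpectrum P)) :=
    PrimeSpectrum.localization_away_comap_range W π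
  exact (Homeomorph.setCongr he).isHomeomorph.topologicalKrullDim_eq

end Groth.Agent.H21Split.Corad
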