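import Groth.Agent.H21Split.Corad.Killed
import Groth.Agent.H21Split.Bru.CellPrime
import Groth.Agent.H21Split.Bru.SimpleCover
import Groth.Agent.H21Split.Bru.BruhatImm
import Groth.Agent.H21Split.CellMap
import Groth.Agent.H21Diag.SplitSubtori
import Groth.Agent.S0348
import Mathlib.AlgebraicGeometry.PullbackCarrier

/-!
The kernel of the projection of a split group to the torus modulo coroots.
-/

open CategoryTheory MonoidalCategory CartesianMonoidalCategory MonObj GrpObj AlgebraicGeometry
open CategoryTheory.Limits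

universe u

set_option backward.isDefEq.respectTransparency false
set_option linter.style.haveILetI false
set_option linter.unusedSectionVars false
set_option synthInstance.maxHeartbeats 400000

noncomputable section

namespace Groth.Agent.H21Split.Corad

variable {S : Scheme.{u}}

/-- connectedness of the geometric fibre gives connectedness of the fibre -/
theorem isIrreducible_fibre {X : Over S} (s : S) [IrreducibleSpace (Red.geomFibre s X).left] :
    IsIrreducible (X.hom.base ⁻¹' {s}) := by
  have hp : ∀ y, (Red.geomPt s) y = s := fun y => by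
    rw [Scheme.Hom.comp_apply]
    exact Scheme.fromSpecResidueField_apply _ _
  have hrg : Set.range (Red.geomPt s) = {s} := Set.ext fun x =>
    ⟨fun ⟨y, hy⟩ => hy ▸ hp y, fun hx => ⟨IsLocalRing.closedPoint _, (hp _).trans (Set.eq_of_mem_singleton hx).symm⟩⟩
  have hr : Set.range (pullback.fst X.hom (Red.geomPt s)) = X.hom ⁻¹' {s} := by
    rw [Scheme.Pullback.range_fst, hrg]
  rw [← hr]
  rw [← Set.image_univ]
  haveI : IrreducibleSpace ↥(pullback X.hom (Red.geomPt s)) := ‹IrreducibleSpace (Red.geomFibre s X).left›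
  exact (IrreducibleSpace.isIrreducible_univ _).image _ (pullback.fst X.hom (Red.geomPt s)).continuous.continuousOn

theorem isIrreducible_fibre_of_isReductive {G : Over S} [GrpObj G] (hG : Red.IsReductive G) (s : S) :
    IsIrreducible (G.hom.base ⁻¹' {s}) := by
  obtain ⟨ha, hs, hc, -⟩ := hG.2.2 s
  haveI := ha
  haveI := hs
  haveI := hc
  haveI : IrreducibleSpace (Red.geomFibre s G).left := Groth.Agent.S0348.result _ (Red.geomFibre s G)
  exact isIrreducible_fibre s

/-- fibres of an open piece of a group with irreducible fibres are preconnected -/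
theorem isPreconnected_fibre_open {X Y : Over S} (c : X ⟶ Y) [IsOpenImmersion c.left] (s : S)
    (h : IsIrreducible (Y.hom.base ⁻¹' {s})) : _root_.IsPreconnected (X.hom.base ⁻¹' {s}) := by
  have hX : X.hom.base ⁻¹' {s} = c.left.base ⁻¹' (Y.hom.base ⁻¹' {s}) := by
    rw [← Set.preimage_comp, ← Over.w c]
    rfl
  rw [hX, ← c.left.isOpenEmbedding.isInducing.isPreconnected_image, Set.image_preimage_eq_inter_range]
  refine IsPreirreducible.isPreconnected fun u v hu hv hsu hsv => ?_
  obtain ⟨x, ⟨hx, hxr⟩, hxu⟩ := hsu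
  obtain ⟨y, ⟨hy, hyr⟩, hyv⟩ := hsv
  obtain ⟨z, hz, ⟨hzu, hzr⟩, hzv, -⟩ := h.2 (u ∩ Set.range c.left.base) (v ∩ Set.range c.left.base)
    (hu.inter c.left.isOpenEmbedding.isOpen_range) (hv.inter c.left.isOpenEmbedding.isOpen_range)
    ⟨x, hx, hxu, hxr⟩ ⟨y, hy, hyv, hyr⟩
  exact ⟨z, ⟨hz, hzr⟩, hzu, hzv⟩

/-- torsion free quotients of lattices are free -/
theorem free_quotient {M : Type} [AddCommGroup M] [Module.Finite ℤ M] (N : AddSubgroup M)
    (hN : ∀ (k : ℤ) (x : M), k ≠ 0 → k • x ∈ N → x ∈ N) : Module.Free ℤ (M ⧸ N) ∧ Module.Finite ℤ (M ⧸ N) := by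
  haveI : Module.Finite ℤ (M ⧸ N) :=
    Module.Finite.of_surjective (QuotientAddGroup.mk' N).toIntLinearMap (QuotientAddGroup.mk'_surjective N)
  haveI : Module.IsTorsionFree ℤ (M ⧸ N) := .mk fun {k} hk x y hxy => by
    obtain ⟨x, rfl⟩ := QuotientAddGroup.mk'_surjective N x
    obtain ⟨y, rfl⟩ := QuotientAddGroup.mk'_surjective N y
    have h1 : QuotientAddGroup.mk' N (k • (x - y)) = 0 := by
      rw [map_zsmul, map_sub, smul_sub]
      exact sub_eq_zero.mpr hxy
    have h2 := hN k _ hk.ne_zero ((QuotientAddGroup.eq_zero_iff _).mp h1)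
    rw [← sub_eq_zero, ← map_sub]
    exact (QuotientAddGroup.eq_zero_iff _).mpr h2
  exact ⟨inferInstance, inferInstance⟩

variable {G : Over S} [GrpObj G] (D : Red.SplitRed G) (N : AddSubgroup D.M)
variable {n m : ℕ} (en : Fin n → D.idx) (ep : Fin m → D.idx)

/-- the source of the big cell of the kernel -/
abbrev cellDom : Over S := RedSub.pow (Red.Ga S) n ⊗ (Red.DS S (D.M ⧸ N) ⊗ RedSub.pow (Red.Ga S) m)

/-- the source of the big cell of the kernel inside the source of the big cell -/
def cellIncl : cellDom D N (n := n) (m := m) ⟶ RedSub.pow (Red.Ga S) n ⊗ (D.T ⊗ RedSub.pow (Red.Ga S) m) :=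
  lift (fst _ _) (lift (snd _ _ ≫ fst _ _ ≫ Red.DSmap S (QuotientAddGroup.mk' N) ≫ D.split.inv.hom.hom)
    (snd _ _ ≫ snd _ _))

theorem cellIncl_cellMap : cellIncl D N ≫ RedSub.cellMap D en ep = cellPrime D N en ep := by
  rw [RedSub.cellMap, MonObj.comp_mul, MonObj.comp_mul, cellIncl]
  simp only [← Category.assoc, lift_fst, lift_snd]
  simp only [Category.assoc]

theorem mono_cellIncl : Mono (cellIncl D N (n := n) (m := m)) := by
  haveI : Mono (Red.DSmap S (QuotientAddGroup.mk' N)) :=
    H18Torsor.DiagExact.mono_DSmap _ (QuotientAddGroup.mk'_surjective N)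
  refine ⟨fun {X} x y h => ?_⟩
  have h1 := congrArg (· ≫ fst _ _) h
  have h2 := congrArg (· ≫ snd _ _ ≫ fst _ _) h
  have h3 := congrArg (· ≫ snd _ _ ≫ snd _ _) h
  simp only [cellIncl, Category.assoc, lift_fst, lift_snd_assoc, lift_snd] at h1 h2 h3
  refine CartesianMonoidalCategory.hom_ext _ _ h1 (CartesianMonoidalCategory.hom_ext _ _ ?_ ?_)
  · haveI : IsIso D.split.inv.hom.hom := ⟨D.split.hom.hom.hom, split_inv_hom D, split_hom_inv D⟩
    simp only [← Category.assoc] at h2
    simpa only [Category.assoc] using (cancel_mono (Red.DSmap S (QuotientAddGroup.mk' N))).mp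
      ((cancel_mono D.split.inv.hom.hom).mp h2)
  · simpa only [Category.assoc] using h3

variable [Nonempty S] [Module.Free ℤ (D.M ⧸ N)] [Module.Finite ℤ (D.M ⧸ N)]

theorem smooth_cellDom : Smooth (cellDom D N (n := n) (m := m)).hom :=
  haveI := smooth_DS (S := S) (D.M ⧸ N)
  smooth_tensor' (smooth_pow H21Rank1.smooth_Ga n) (smooth_tensor' inferInstance (smooth_pow H21Rank1.smooth_Ga m))

/-- the fibres of the source of the big cell of the kernel are preconnected -/
theorem isPreconnected_fibre_cellDom (hD : IsCellData D en ep) (hbij : Function.Bijective (Sum.elim en ep)) (s : S) :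
    _root_.IsPreconnected ((cellDom D N (n := n) (m := m)).hom.base ⁻¹' {s}) := by
  haveI := isOpenImmersion_cellMap D en ep hD hbij
  have h := isPreconnected_fibre_open (RedSub.cellMap D en ep) s (isIrreducible_fibre_of_isReductive D.reductive s)
  obtain ⟨σ, hσ⟩ := Module.projective_lifting_property (QuotientAddGroup.mk' N).toIntLinearMap LinearMap.id
    (QuotientAddGroup.mk'_surjective N)
  let r : RedSub.pow (Red.Ga S) n ⊗ (D.T ⊗ RedSub.pow (Red.Ga S) m) ⟶ cellDom D N :=
    lift (fst _ _) (lift (snd _ _ ≫ fst _ _ ≫ D.split.hom.hom.hom ≫ Red.DSmap S σ.toAddMonoidHom) (snd _ _ ≫ snd _ _))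
  have hjr : cellIncl D N ≫ r = 𝟙 _ := by
    have hd : Red.DSmap S (QuotientAddGroup.mk' N) ≫ Red.DSmap S σ.toAddMonoidHom = 𝟙 _ :=
      H21Diag.DSmap_comp_eq_id _ _ (AddMonoidHom.ext fun x => LinearMap.congr_fun hσ x)
    refine CartesianMonoidalCategory.hom_ext _ _ ?_ (CartesianMonoidalCategory.hom_ext _ _ ?_ ?_)
    · simp [cellIncl, r]
    · simp only [cellIncl, r, Category.assoc, lift_fst, lift_snd_assoc, lift_fst_assoc, Category.id_comp,
        reassoc_of% (split_inv_hom D), hd, Category.comp_id]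
    · simp [cellIncl, r]
  have himg : r.left.base '' ((RedSub.pow (Red.Ga S) n ⊗ (D.T ⊗ RedSub.pow (Red.Ga S) m)).hom.base ⁻¹' {s}) =
      (cellDom D N (n := n) (m := m)).hom.base ⁻¹' {s} := by
    ext y
    constructor
    · rintro ⟨x, hx, rfl⟩
      change (cellDom D N).hom.base (r.left.base x) = s
      rw [← Scheme.Hom.comp_apply, Over.w]
      exact hx
    · intro hy
      refine ⟨(cellIncl D N).left.base y, ?_, ?_⟩
      · change _ = s
        rw [← Scheme.Hom.comp_apply, Over.w]
        exact hy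
      · rw [← Scheme.Hom.comp_apply, ← Over.comp_left, hjr]
        rfl
  rw [← himg]
  exact h.image _ r.left.continuous.continuousOn

end Groth.Agent.H21Split.Corad
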