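import Groth.Agent.H21Split.Bru.Coradical
import Mathlib.RingTheory.AdjoinRoot
import Mathlib.RingTheory.Flat.FaithfullyFlat.Algebra
import Mathlib.RingTheory.Spectrum.Prime.Topology

/-!
Homomorphisms of a split group to commutative groups kill root groups and coroot tori, and the torus of the kernel
of the projection modulo coroots.
-/

open CategoryTheory MonoidalCategory CartesianMonoidalCategory MonObj GrpObj AlgebraicGeometry

universe u

set_option backward.isDefEq.respectTransparency false
set_option linter.style.haveILetI false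
set_option linter.unusedSectionVars false
set_option synthInstance.maxHeartbeats 400000

noncomputable section

namespace Groth.Agent.H21Split.Corad

theorem zpow_finsetSum {H α : Type*} [CommGroup H] (x : H) (s : Finset α) (f : α → ℤ) :
    x ^ ∑ a ∈ s, f a = ∏ a ∈ s, x ^ f a := by
  classical
  induction s using Finset.induction_on with
  | empty => simp
  | insert a s ha ih => rw [Finset.sum_insert ha, Finset.prod_insert ha, zpow_add, ih]

theorem nontrivial_adjoinRoot {B : Type u} [CommRing B] [Nontrivial B] {p : Polynomial B} (hp : p.Monic)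
    (h : 0 < p.natDegree) : Nontrivial (AdjoinRoot p) :=
  nontrivial_of_ne _ _ ((AdjoinRoot.powerBasis' hp).basis.ne_zero ⟨0, h⟩)

/-- roots of units after a faithfully flat extension -/
theorem exists_roots {R : Type u} [CommRing R] (n : ℕ) (hn : 0 < n) : ∀ (r : ℕ) (c : Fin r → Rˣ),
    ∃ (B : Type u) (_ : CommRing B) (_ : Algebra R B), Module.FaithfullyFlat R B ∧
      ∃ ξ : Fin r → Bˣ, ∀ j, ξ j ^ n = Units.map (algebraMap R B).toMonoidHom (c j)
  | 0, _ => ⟨R, inferInstance, inferInstance, inferInstance, Fin.elim0, fun j => j.elim0⟩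
  | r + 1, c => by
    obtain ⟨B, iB, iA, hB, ξ, hξ⟩ := exists_roots n hn r fun j => c j.succ
    letI := iB
    letI := iA
    haveI := hB
    rcases subsingleton_or_nontrivial B with hs | hs
    · exact ⟨B, iB, iA, hB, fun _ => 1, fun _ => Units.ext (Subsingleton.elim _ _)⟩
    let p : Polynomial B := Polynomial.X ^ n - Polynomial.C (algebraMap R B (c 0))
    have hp : p.Monic := Polynomial.monic_X_pow_sub_C _ hn.ne'
    haveI : Module.Free B (AdjoinRoot p) := hp.free_adjoinRoot
    haveI : Nontrivial (AdjoinRoot p) := nontrivial_adjoinRoot hp (by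
      rw [Polynomial.natDegree_X_pow_sub_C]; exact hn)
    haveI : Module.FaithfullyFlat R (AdjoinRoot p) := Module.FaithfullyFlat.trans R B (AdjoinRoot p)
    have hroot : (AdjoinRoot.root p) ^ n = algebraMap B (AdjoinRoot p) (algebraMap R B (c 0)) := by
      have := AdjoinRoot.eval₂_root p
      simp only [p, Polynomial.eval₂_sub, Polynomial.eval₂_X_pow, Polynomial.eval₂_C, sub_eq_zero] at this
      exact this
    have hu : IsUnit (AdjoinRoot.root p) := (isUnit_pow_iff hn.ne').mp (hroot ▸ ((c 0).isUnit.map _).map _)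
    refine ⟨AdjoinRoot p, inferInstance, inferInstance, inferInstance,
      Fin.cases hu.unit fun j => Units.map (algebraMap B (AdjoinRoot p)).toMonoidHom (ξ j), fun j => Units.ext ?_⟩
    refine Fin.cases ?_ (fun j => ?_) j
    · simp only [Fin.cases_zero]
      rw [Units.val_pow_eq_pow_val, IsUnit.unit_spec, hroot, Units.coe_map]
      exact (IsScalarTower.algebraMap_apply R B (AdjoinRoot p) _).symm
    · have := congrArg (fun u : Bˣ => algebraMap B (AdjoinRoot p) u) (hξ j)
      simp only [Units.val_pow_eq_pow_val, map_pow, Units.coe_map] at this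
      simp only [Fin.cases_succ]
      rw [Units.val_pow_eq_pow_val, Units.coe_map, Units.coe_map]
      exact this.trans (IsScalarTower.algebraMap_apply R B (AdjoinRoot p) _).symm

variable {S : Scheme.{u}} {R : Type u} [CommRing R] (g : Spec (CommRingCat.of R) ⟶ S)

theorem epi_pmap (B : Type u) [CommRing B] [Algebra R B] [Module.FaithfullyFlat R B] {Y : Over S}
    {x y : pt g R ⟶ Y} (h : pmap g (toBase R B) ≫ x = pmap g (toBase R B) ≫ y) : x = y := by
  let φ := Spec.map (CommRingCat.ofHom (toBase R B).toRingHom)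
  haveI : Flat φ := by
    rw [HasRingHomProperty.Spec_iff (P := @Flat)]
    change RingHom.Flat (algebraMap R B)
    exact RingHom.flat_algebraMap_iff.mpr inferInstance
  haveI : AlgebraicGeometry.Surjective φ := ⟨PrimeSpectrum.comap_surjective_of_faithfullyFlat⟩
  haveI := Flat.epi_of_flat_of_surjective φ
  exact Over.OverMorphism.ext ((cancel_epi φ).mp (congrArg CategoryTheory.CommaMorphism.left h))

variable {G : Over S} [GrpObj G] (D : Red.SplitRed G) {A : Over S} [GrpObj A] (h : G ⟶ A) [IsMonHom h]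
  (hcomm : ∀ (X : Over S) (a b : X ⟶ A), a * b = b * a)
include hcomm

theorem map_conj {X : Over S} (w z : X ⟶ G) : (w * z * w⁻¹) ≫ h = z ≫ h := by
  rw [MonObj.mul_comp, MonObj.mul_comp, hcomm X (w ≫ h), _root_.mul_assoc, ← MonObj.mul_comp, mul_inv_cancel,
    MonObj.one_comp, _root_.mul_one]

/-- root groups die in commutative groups -/
theorem u_comp_eq_one (a : D.idx) : D.u a ≫ h = 1 := by
  refine hom_ext_pt fun R _ g j => ?_
  rw [MonObj.comp_one, ← ga_gv g j, ← Category.assoc]
  generalize gv g j = x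
  change uPt g D a x ≫ h = 1
  rcases subsingleton_or_nontrivial R with hs | hs
  · rw [Subsingleton.elim x 0, uPt_zero, MonObj.one_comp]
  haveI := D.finiteM
  haveI := D.freeM
  obtain ⟨η₀, hη₀⟩ := H21Split.exists_dual_ne_zero (fun _ : Unit => D.P.root a)
  obtain ⟨ν, k, hk, hν⟩ : ∃ (ν : D.M →+ ℤ) (k : ℕ), 0 < k ∧ ν (D.P.root a) = k := by
    rcases lt_or_gt_of_ne (hη₀ () (D.P.ne_zero a)) with h' | h'
    · exact ⟨-η₀, (-η₀ (D.P.root a)).toNat, by omega, by simp; omega⟩
    · exact ⟨η₀, (η₀ (D.P.root a)).toNat, by omega, by omega⟩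
  let q : Polynomial R := Polynomial.X ^ 2 - Polynomial.X - Polynomial.C 1
  let p : Polynomial R := q.comp (Polynomial.X ^ k)
  have hp : p = Polynomial.X ^ (2 * k) - (Polynomial.X ^ k + Polynomial.C 1) := by
    simp only [p, q, Polynomial.sub_comp, Polynomial.pow_comp, Polynomial.X_comp, Polynomial.C_comp]
    ring
  have hdeg : (Polynomial.X ^ k + Polynomial.C 1 : Polynomial R).degree < ((2 * k : ℕ) : WithBot ℕ) := by
    rw [Polynomial.degree_X_pow_add_C hk]
    exact_mod_cast (by omega : k < 2 * k)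
  have hmon : p.Monic := hp ▸ Polynomial.monic_X_pow_sub hdeg
  haveI : Module.Free R (AdjoinRoot p) := hmon.free_adjoinRoot
  haveI : Nontrivial (AdjoinRoot p) := nontrivial_adjoinRoot hmon (by
    rw [hp, Polynomial.natDegree_sub_eq_left_of_natDegree_lt (by
      rw [Polynomial.natDegree_X_pow_add_C, Polynomial.natDegree_X_pow]; omega), Polynomial.natDegree_X_pow]
    omega)
  haveI : Module.FaithfullyFlat R (AdjoinRoot p) := inferInstance
  let B := AdjoinRoot p
  let t : B := AdjoinRoot.root p
  have ht : t ^ k * (t ^ k - 1) = 1 := by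
    have e := congrArg (AdjoinRoot.mk p) hp
    rw [AdjoinRoot.mk_self] at e
    simp only [map_sub, map_add, map_pow, AdjoinRoot.mk_X, map_one, pow_mul'] at e
    change (0 : B) = (t ^ k) ^ 2 - (t ^ k + 1) at e
    linear_combination -e
  have htu : IsUnit t := (isUnit_pow_iff hk.ne').mp (IsUnit.of_mul_eq_one _ ht)
  let χ : Multiplicative D.M →* B := (Units.coeHom B).comp ((zpowersHom Bˣ htu.unit).comp (AddMonoidHom.toMultiplicative ν))
  have hχ : χ (Multiplicative.ofAdd (D.P.root a)) = t ^ k := by
    change ((htu.unit ^ ν (D.P.root a) : Bˣ) : B) = _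
    rw [hν, zpow_natCast, Units.val_pow_eq_pow_val, IsUnit.unit_spec]
  refine epi_pmap g B ?_
  rw [MonObj.comp_one, ← Category.assoc, pmap_uPt]
  let r := toBase R B x
  have h1 := map_conj h hcomm (tPt g D χ) (uPt g D a (t ^ k * r))
  rw [tPt_conj, hχ] at h1
  have h2 : t ^ k * (t ^ k * r) = t ^ k * r + r := by linear_combination r * ht
  rw [h2, uPt_add, MonObj.mul_comp, mul_eq_left] at h1
  exact h1

theorem avc_comp_eq_one [D.P.IsReduced] (a : D.idx) : avc D a ≫ D.i ≫ h = 1 := by
  refine hom_ext_pt fun R _ g j => ?_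
  rw [MonObj.comp_one]
  obtain ⟨x, hx⟩ := H27Witt.GaCoord.gaFn_surjective (X := pt g R) 1
  obtain ⟨y, hy⟩ := H27Witt.GaCoord.gaFn_surjective (X := pt g R) (Red.gmFn j - 1)
  obtain ⟨x', y', z, hz, -, -, e⟩ := kap_spec D a (pt g R) x y (by
    rw [hx, hy, _root_.one_mul, add_sub_cancel]
    exact H21Rank1.isUnit_gmFn j)
  rw [hx, hy, _root_.one_mul, add_sub_cancel] at hz
  rw [H21Rank1.gmFn_injective hz] at e
  have h1 := congrArg (· ≫ h) e
  simp only [MonObj.mul_comp, Category.assoc, u_comp_eq_one D h hcomm, MonObj.comp_one, _root_.one_mul,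
    _root_.mul_one] at h1
  rw [avc]
  simpa only [Category.assoc] using h1.symm

theorem prod_tPt_comp {B : Type u} [CommRing B] [Algebra R B] {α : Type*} (s : Finset α)
    (χ : α → (Multiplicative D.M →* B)) (h1 : ∀ a ∈ s, tPt g D (χ a) ≫ h = 1) :
    tPt g D (∏ a ∈ s, χ a) ≫ h = 1 := by
  classical
  induction s using Finset.induction_on with
  | empty => rw [Finset.prod_empty, tPt_one, MonObj.one_comp]
  | insert a s ha ih =>
    rw [Finset.prod_insert ha, tPt_mul, MonObj.mul_comp, h1 a (Finset.mem_insert_self a s),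
      ih fun c hc => h1 c (Finset.mem_insert_of_mem hc), _root_.mul_one]

/-- the torus of the kernel dies in commutative groups -/
theorem torus_comp_eq_one [D.P.IsReduced] (N : AddSubgroup D.M) (hN : ∀ x, x ∈ N ↔ ∀ a, D.P.coroot a x = 0)
    [Module.Free ℤ (D.M ⧸ N)] [Module.Finite ℤ (D.M ⧸ N)] :
    Red.DSmap S (QuotientAddGroup.mk' N) ≫ D.split.inv.hom.hom ≫ D.i ≫ h = 1 := by
  classical
  haveI := D.fintypeIdx
  refine hom_ext_pt fun R _ g j => ?_
  obtain ⟨χ, rfl⟩ := ds_surjective g j
  rw [MonObj.comp_one, ← Category.assoc, ds_DSmap]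
  let bq := Module.finBasis ℤ (D.M ⧸ N)
  set r := Module.finrank ℤ (D.M ⧸ N)
  choose e he using fun j => QuotientAddGroup.mk'_surjective N (bq j)
  let C : Matrix D.idx (Fin r) ℤ := Matrix.of fun a j => D.P.coroot a (e j)
  let Aq : Matrix (Fin r) (Fin r) ℤ := C.transpose * C
  have hdet : Aq.det ≠ 0 := by
    intro h0
    obtain ⟨v, hv0, hv⟩ := Matrix.exists_mulVec_eq_zero_iff.mpr h0
    have hCv : C.mulVec v = 0 := by
      rw [← dotProduct_self_eq_zero (R := ℤ), Matrix.dotProduct_mulVec, Matrix.vecMul_mulVec]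
      change dotProduct (Matrix.vecMul v Aq) v = 0
      rw [← Matrix.dotProduct_mulVec, hv, dotProduct_zero]
    refine hv0 (funext fun i => ?_)
    have hmem : ∑ j, v j • e j ∈ N := (hN _).mpr fun a => by
      rw [map_sum]
      have := congrFun hCv a
      simpa [Matrix.mulVec, dotProduct, C, mul_comm] using this
    have h1 : ∑ j, v j • bq j = 0 := by
      have := (QuotientAddGroup.eq_zero_iff _).mpr hmem
      rw [← QuotientAddGroup.mk'_apply, map_sum] at this
      simp_rw [← he, ← map_zsmul]
      exact this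
    exact Fintype.linearIndependent_iff.mp bq.linearIndependent v h1 i
  let n : ℕ := (Aq.det * Aq.det).toNat
  have hnz : (n : ℤ) = Aq.det * Aq.det := Int.toNat_of_nonneg (mul_self_nonneg _)
  have hn : 0 < n := by
    have : (0 : ℤ) < n := by rw [hnz]; exact mul_self_pos.mpr hdet
    exact_mod_cast this
  let d : Matrix (Fin r) D.idx ℤ := (Aq.det • Aq.adjugate) * C.transpose
  have hdC : d * C = (n : ℤ) • (1 : Matrix (Fin r) (Fin r) ℤ) := by
    rw [hnz, Matrix.mul_assoc, Matrix.smul_mul, Matrix.adjugate_mul, smul_smul]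
  obtain ⟨B, iB, iA, hB, ξ, hξ⟩ := exists_roots n hn r fun j => χ.toHomUnits (Multiplicative.ofAdd (bq j))
  letI := iB
  letI := iA
  haveI := hB
  refine epi_pmap g B ?_
  rw [MonObj.comp_one, ← Category.assoc, pmap_ds]
  let ψ : D.idx → Bˣ := fun a => ∏ i, ξ i ^ d i a
  let χB : Multiplicative D.M →* B :=
    (toBase R B).toRingHom.toMonoidHom.comp (χ.comp (AddMonoidHom.toMultiplicative (QuotientAddGroup.mk' N)))
  let χa : D.idx → (Multiplicative D.M →* B) := fun a =>
    ((Units.coeHom B).comp (zpowersHom Bˣ (ψ a))).comp (AddMonoidHom.toMultiplicative (D.P.coroot a).toAddMonoidHom)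
  have hsum : χB = ∏ a, χa a := by
    let f₁ : (D.M ⧸ N) →+ Additive Bˣ :=
      MonoidHom.toAdditiveRight ((Units.map (toBase R B).toRingHom.toMonoidHom).comp χ.toHomUnits)
    let f₂ : D.M →+ Additive Bˣ :=
      ∑ a, (zmultiplesHom (Additive Bˣ) (Additive.ofMul (ψ a))).comp (D.P.coroot a).toAddMonoidHom
    have hker : N ≤ f₂.ker := fun m hm => by
      rw [AddMonoidHom.mem_ker]
      simp only [f₂, AddMonoidHom.finsetSum_apply, AddMonoidHom.comp_apply, LinearMap.toAddMonoidHom_coe,
        zmultiplesHom_apply, (hN m).mp hm, zero_smul, Finset.sum_const_zero]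
    have hbasis : (QuotientAddGroup.lift N f₂ hker).toIntLinearMap = f₁.toIntLinearMap := bq.ext fun i => by
      change QuotientAddGroup.lift N f₂ hker (bq i) = f₁ (bq i)
      rw [← he i]
      change f₂ (e i) = _
      rw [he i]
      have h2 : ∀ i', ∑ a, d i' a * C a i = if i' = i then (n : ℤ) else 0 := fun i' => by
        rw [← Matrix.mul_apply, hdC, Matrix.smul_apply, Matrix.one_apply, smul_eq_mul, mul_ite, _root_.mul_one, mul_zero]
      apply Additive.toMul.injective
      simp only [f₂, AddMonoidHom.finsetSum_apply, AddMonoidHom.comp_apply, LinearMap.toAddMonoidHom_coe,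
        zmultiplesHom_apply, toMul_sum, toMul_zsmul, toMul_ofMul, ψ]
      calc ∏ a, (∏ i', ξ i' ^ d i' a) ^ D.P.coroot a (e i)
          = ∏ i', ξ i' ^ ∑ a, d i' a * C a i := by
            simp_rw [← Finset.prod_zpow, ← zpow_mul]
            rw [Finset.prod_comm]
            exact Finset.prod_congr rfl fun i' _ => (zpow_finsetSum _ _ _).symm
        _ = ξ i ^ n := by
            simp_rw [h2]
            rw [Finset.prod_eq_single i (fun i' _ hne => by rw [if_neg hne, zpow_zero]) (by simp), if_pos rfl,
              zpow_natCast]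
        _ = _ := hξ i
    refine MonoidHom.ext fun m => ?_
    have := LinearMap.congr_fun hbasis (QuotientAddGroup.mk' N m.toAdd)
    have h3 : χB m = ((Additive.toMul (f₂ m.toAdd) : Bˣ) : B) := by
      change χB m = ((Additive.toMul (QuotientAddGroup.lift N f₂ hker (QuotientAddGroup.mk' N m.toAdd)) : Bˣ) : B)
      exact (congrArg (fun z : Additive Bˣ => ((Additive.toMul z : Bˣ) : B)) this).symm
    rw [h3, MonoidHom.finsetProd_apply]
    simp [f₂, χa, toMul_sum, toMul_zsmul, Units.coe_prod]
  change ds g χB ≫ _ = 1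
  rw [hsum, ← Category.assoc, ← Category.assoc, Category.assoc (ds g _)]
  change tPt g D (∏ a, χa a) ≫ h = 1
  refine prod_tPt_comp g D h hcomm _ _ fun a _ => ?_
  rw [tPt, show χa a = MonoidHom.comp ((Units.coeHom B).comp (zpowersHom Bˣ (ψ a)))
      (AddMonoidHom.toMultiplicative (D.P.coroot a).toAddMonoidHom) from rfl, ← ds_DSmap]
  simp only [Category.assoc]
  have := avc_comp_eq_one D h hcomm a
  rw [avc] at this
  simp only [Category.assoc] at this
  rw [this, MonObj.comp_one]

end Groth.Agent.H21Split.Corad
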