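import Groth.Agent.H21Split.Corad.Kernel
import Groth.Agent.H21Split.Red0.BaseExists

/-!
The kernel of the projection modulo coroots is smooth with connected fibres and killed by commutative groups.
-/

open CategoryTheory MonoidalCategory CartesianMonoidalCategory MonObj GrpObj AlgebraicGeometry
open CategoryTheory.Limits

universe u

set_option backward.isDefEq.respectTransparency false
set_option linter.style.haveILetI false
set_option linter.unusedSectionVars false
set_option synthInstance.maxHeartbeats 400000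

noncomputable section

namespace Groth.Agent.H21Split.Corad

variable {S : Scheme.{u}} {G : Over S} [GrpObj G] (D : Red.SplitRed G) (b : D.P.Base)
  (N : AddSubgroup D.M) (hN : ∀ x : D.M, x ∈ N ↔ ∀ a : D.idx, D.P.coroot a x = 0)
  (f : G ⟶ Red.DS S ↥N) [IsMonHom f] (hi : D.i ≫ f = coradT D N) (hu : ∀ c, D.u c ≫ f = 1)
  {K : Over S} [GrpObj K] (k : K ⟶ G) [IsMonHom k] (hk : AlgGrp.IsKernel k f)
include hN hi hu hk

theorem kill_k {X : Over S} (x : X ⟶ K) : (x ≫ k) ≫ f = 1 := by
  rw [Category.assoc, hk.w, ← Category.assoc, toUnit_unique (x ≫ toUnit K) (toUnit X), ← Hom.one_def]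

theorem lift_k {X : Over S} (z : X ⟶ G) (hz : z ≫ f = 1) : ∃ x : X ⟶ K, x ≫ k = z :=
  ⟨hk.lift z (toUnit X) (by rw [hz, Hom.one_def]), hk.lift_fst _ _ _⟩

theorem mono_k : Mono k :=
  ⟨fun x y h => hk.hom_ext h (toUnit_unique _ _)⟩

variable {n m : ℕ} (en : Fin n → D.idx) (ep : Fin m → D.idx)

/-- the translated big cell -/
abbrev trans (w : 𝟙_ (Over S) ⟶ G) : RedSub.pow (Red.Ga S) n ⊗ (D.T ⊗ RedSub.pow (Red.Ga S) m) ⟶ G :=
  (toUnit _ ≫ w) * RedSub.cellMap D en ep

theorem exists_chart (hD : IsCellData D en ep) (hbij : Function.Bijective (Sum.elim en ep))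
    (w : 𝟙_ (Over S) ⟶ G) (hw : w ≫ f = 1) :
    ∃ c : cellDom D N (n := n) (m := m) ⟶ K, c ≫ k = (toUnit _ ≫ w) * cellPrime D N en ep ∧
      IsOpenImmersion c.left ∧
      ∀ q : K.left, k.left.base q ∈ Set.range (trans D en ep w).left.base → q ∈ Set.range c.left.base := by
  haveI : IsMonHom f := inferInstance
  have hw' : ∀ X : Over S, (toUnit X ≫ w) ≫ f = 1 := fun X => by rw [Category.assoc, hw, MonObj.comp_one]
  have hm : (Red.DSmap S (QuotientAddGroup.mk' N) ≫ D.split.inv.hom.hom) ≫ coradT D N = 1 := mk'_coradT D N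
  obtain ⟨c, hc⟩ := lift_k D N hN f hi hu k hk ((toUnit (cellDom D N (n := n) (m := m)) ≫ w) * cellPrime D N en ep) (by
    have := cellPrime_kill D N en ep hi hu hm (𝟙 _)
    rw [Category.id_comp] at this
    rw [MonObj.mul_comp, hw', this, _root_.one_mul])
  have hj : cellIncl D N ≫ trans D en ep w = (toUnit _ ≫ w) * cellPrime D N en ep := by
    rw [MonObj.comp_mul, cellIncl_cellMap, ← Category.assoc, toUnit_unique (cellIncl D N ≫ toUnit _) (toUnit _)]
  have hmk := mono_k D N hN f hi hu k hk
  haveI := hmk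
  haveI := mono_cellIncl D N (n := n) (m := m)
  have hlift : ∀ (X : Over S) (a : X ⟶ K) (y : X ⟶ RedSub.pow (Red.Ga S) n ⊗ (D.T ⊗ RedSub.pow (Red.Ga S) m)),
      a ≫ k = y ≫ trans D en ep w → ∃ l, l ≫ c = a ∧ l ≫ cellIncl D N = y := fun X a y hay => by
    have hy : (y ≫ snd _ _ ≫ fst _ _) ≫ coradT D N = 1 := by
      rw [← cell_corad D en ep hi hu y]
      have h1 := kill_k D N hN f hi hu k hk a
      rw [hay, MonObj.comp_mul, MonObj.mul_comp, ← Category.assoc y,
        toUnit_unique (y ≫ toUnit _) (toUnit _), hw', _root_.one_mul] at h1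
      exact h1
    obtain ⟨sl, hsl⟩ := exists_lift_coradT D _ hy
    have hl : lift (y ≫ fst _ _) (lift sl (y ≫ snd _ _ ≫ snd _ _)) ≫ cellIncl D N (n := n) (m := m) = y := by
      simp only [cellIncl, comp_lift, lift_fst, lift_snd_assoc, lift_snd, Category.assoc, lift_fst_assoc]
      rw [hsl]
      exact CartesianMonoidalCategory.hom_ext _ _ (by simp) (CartesianMonoidalCategory.hom_ext _ _ (by simp) (by simp))
    exact ⟨_, by rw [← cancel_mono k, Category.assoc, hc, ← hj, hay, reassoc_of% hl], hl⟩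
  have hpb : IsPullback c (cellIncl D N) k (trans D en ep w) :=
    IsPullback.of_isLimit' ⟨hc.trans hj.symm⟩ (PullbackCone.IsLimit.mk _
      (fun z => (hlift z.pt z.fst z.snd z.condition).choose)
      (fun z => (hlift z.pt z.fst z.snd z.condition).choose_spec.1)
      (fun z => (hlift z.pt z.fst z.snd z.condition).choose_spec.2)
      fun z l _ h2 => by
        rw [← cancel_mono (cellIncl D N), h2]
        exact (hlift z.pt z.fst z.snd z.condition).choose_spec.2.symm)
  haveI := isOpenImmersion_cellMap D en ep hD hbij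
  haveI hot : IsOpenImmersion (trans D en ep w).left := by
    rw [show trans D en ep w = RedSub.cellMap D en ep ≫ (transIso w).hom from (comp_transIso w _).symm, Over.comp_left]
    haveI : IsIso (transIso w).hom.left := ((Over.forget S).mapIso (transIso w)).isIso_hom
    infer_instance
  have hpb' : IsPullback c.left (cellIncl D N).left k.left (trans D en ep w).left :=
    hpb.map (Over.forget S)
  have hoc : IsOpenImmersion c.left := MorphismProperty.of_isPullback (P := @IsOpenImmersion) hpb'.flip hot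
  refine ⟨c, hc, hoc, fun q ⟨y, hy⟩ => ?_⟩
  obtain ⟨z, hz, -⟩ := Scheme.Pullback.exists_preimage_pullback (f := k.left) (g := (trans D en ep w).left) q y hy.symm
  refine ⟨hpb'.isoPullback.inv z, ?_⟩
  rw [← Scheme.Hom.comp_apply, hpb'.isoPullback_inv_fst]
  exact hz

omit hN hi hu hk in
/-- the fibres of the additive group are preconnected -/
theorem isPreconnected_fibre_Ga (D : Red.SplitRed G) (s : S) : _root_.IsPreconnected ((Red.Ga S).hom ⁻¹' {s}) := by
  haveI := connected_fib_pow D (Red.geomPt s) 1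
  let P := RedSub.pow (Red.Ga S) 1
  have hp : ∀ y, (Red.geomPt s) y = s := fun y => by
    rw [Scheme.Hom.comp_apply]
    exact Scheme.fromSpecResidueField_apply _ _
  have hr : Set.range (pullback.fst P.hom (Red.geomPt s)) = P.hom ⁻¹' {s} := by
    rw [Scheme.Pullback.range_fst]
    exact congrArg _ (Set.ext fun x => ⟨fun ⟨y, hy⟩ => hy ▸ hp y,
      fun hx => ⟨IsLocalRing.closedPoint _, (hp _).trans (Set.eq_of_mem_singleton hx).symm⟩⟩)
  haveI : ConnectedSpace ↥(pullback P.hom (Red.geomPt s)) := ‹ConnectedSpace _›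
  have hP : _root_.IsPreconnected (P.hom ⁻¹' {s}) :=
    hr ▸ isPreconnected_range (pullback.fst P.hom (Red.geomPt s)).continuous
  let pr : P ⟶ Red.Ga S := fst _ _
  let sc : Red.Ga S ⟶ P := lift (𝟙 _) (toUnit _)
  have himg : pr.left '' (P.hom ⁻¹' {s}) = (Red.Ga S).hom ⁻¹' {s} := by
    ext y
    constructor
    · rintro ⟨x, hx, rfl⟩
      change (Red.Ga S).hom _ = s
      rw [← Scheme.Hom.comp_apply, Over.w]
      exact hx
    · intro hy
      refine ⟨sc.left y, ?_, ?_⟩
      · change P.hom _ = s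
        rw [← Scheme.Hom.comp_apply, Over.w]
        exact hy
      · rw [← Scheme.Hom.comp_apply, ← Over.comp_left, lift_fst]
        rfl
  rw [← himg]
  exact hP.image _ pr.left.continuous.continuousOn

set_option maxHeartbeats 1000000 in
include b in
theorem smooth_connected [Nonempty S] : Smooth K.hom ∧ RedSub.HasConnectedFibres K := by
  haveI := D.finiteM
  obtain ⟨hfree, hfin⟩ := free_quotient N fun l x hl hx => (hN x).mpr fun a => by
    have := (hN _).mp hx a
    rw [map_zsmul, smul_eq_mul] at this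
    exact (mul_eq_zero.mp this).resolve_left hl
  haveI := hfree
  haveI := hfin
  haveI := isReduced' D b
  haveI := mono_k D N hN f hi hu k hk
  obtain ⟨n, en, hen⟩ := exists_enum D (RedSub.negRoots D.P b)
  obtain ⟨m, ep, hep⟩ := exists_enum D (RedSub.posRoots D.P b)
  obtain ⟨hD, hbij⟩ := isCellData_of_base D b hen hep
  let pt' : (𝟙_ (Over S) ⟶ K) → S → K.left := fun x s => x.left s
  have hpt : ∀ (x : 𝟙_ (Over S) ⟶ K) s, pt' x s ∈ K.hom ⁻¹' {s} := fun x s => by
    change K.hom (x.left s) = s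
    rw [← Scheme.Hom.comp_apply, Over.w]
    rfl
  let Cn : (𝟙_ (Over S) ⟶ G) → Prop := fun w => w ≫ f = 1 ∧ ∀ x : 𝟙_ (Over S) ⟶ K, x ≫ k = w →
    ∀ s, pt' x s ∈ connectedComponentIn (K.hom ⁻¹' {s}) (pt' 1 s)
  let M : Submonoid (𝟙_ (Over S) ⟶ G) := Submonoid.closure (Set.range fun a : D.idx => oneGa S ≫ D.u a)
  have hM : ∀ w ∈ M, Cn w := by
    intro w hw
    induction hw using Submonoid.closure_induction_right with
    | one =>
      refine ⟨MonObj.one_comp f, fun x hx s => ?_⟩
      rw [show x = 1 from (cancel_mono k).mp (hx.trans (MonObj.one_comp k).symm)]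
      exact mem_connectedComponentIn (hpt 1 s)
    | mul_right w hwM y hy ih =>
      obtain ⟨a, rfl⟩ := hy
      obtain ⟨hwf, hwc⟩ := ih
      haveI : IsMonHom (D.u a) := (D.rootHom a).1
      refine ⟨by rw [MonObj.mul_comp, hwf, Category.assoc, hu, MonObj.comp_one, _root_.one_mul], fun x hx s => ?_⟩
      obtain ⟨e, he⟩ := lift_k D N hN f hi hu k hk ((toUnit _ ≫ w) * D.u a) (by
        rw [MonObj.mul_comp, Category.assoc, hwf, MonObj.comp_one, hu, _root_.one_mul])
      obtain ⟨x₀, hx₀⟩ := lift_k D N hN f hi hu k hk w hwf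
      have h0 : (1 : 𝟙_ (Over S) ⟶ Red.Ga S) ≫ e = x₀ := by
        rw [← cancel_mono k, Category.assoc, he, MonObj.comp_mul, hx₀,
          ← Category.assoc, toUnit_unique (_ ≫ toUnit _) (𝟙 _), Category.id_comp, MonObj.one_comp, _root_.mul_one]
      have h1 : oneGa S ≫ e = x := by
        rw [← cancel_mono k, Category.assoc, he, MonObj.comp_mul, hx, ← Category.assoc,
          toUnit_unique (_ ≫ toUnit _) (𝟙 _), Category.id_comp]
      have hs := isPreconnected_fibre_Ga (S := S) D s
      have hsub : e.left '' ((Red.Ga S).hom ⁻¹' {s}) ⊆ connectedComponentIn (K.hom ⁻¹' {s}) (pt' x₀ s) := by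
        refine (hs.image _ e.left.continuous.continuousOn).subset_connectedComponentIn
          ⟨(1 : 𝟙_ (Over S) ⟶ Red.Ga S).left s, ?_, ?_⟩ ?_
        · change (Red.Ga S).hom _ = s
          rw [← Scheme.Hom.comp_apply, Over.w]; rfl
        · rw [← Scheme.Hom.comp_apply, ← Over.comp_left, h0]
        · rintro _ ⟨y, hy, rfl⟩
          change K.hom _ = s
          rw [← Scheme.Hom.comp_apply, Over.w]; exact hy
      have hmem : pt' x s ∈ connectedComponentIn (K.hom ⁻¹' {s}) (pt' x₀ s) := hsub ⟨(oneGa S).left s, by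
        change (Red.Ga S).hom _ = s
        rw [← Scheme.Hom.comp_apply, Over.w]; rfl, by
        rw [← Scheme.Hom.comp_apply, ← Over.comp_left, h1]⟩
      rwa [connectedComponentIn_eq (hwc x₀ hx₀ s)]
  choose c hc hoc hrange using fun w : M => exists_chart D N hN f hi hu k hk en ep hD hbij w.1 (hM w.1 w.2).1
  have hcover : ∀ q : K.left, ∃ (w : M) (y : (cellDom D N (n := n) (m := m)).left), (c w).left y = q := fun q => by
    obtain ⟨w, hw, hq⟩ := exists_translate_monoid D b hen hep M (fun _ => oneGa S)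
      (fun a _ => by rw [gaFn_oneGa]; exact isUnit_one)
      (fun a _ => Submonoid.subset_closure ⟨a, rfl⟩) (k.left q)
    exact ⟨⟨w, hw⟩, hrange ⟨w, hw⟩ q hq⟩
  refine ⟨?_, fun s => ⟨⟨_, hpt 1 s⟩, ?_⟩⟩
  · haveI := smooth_cellDom D N (n := n) (m := m)
    haveI : ∀ w, IsOpenImmersion (c w).left := hoc
    let 𝒰 : K.left.OpenCover := Scheme.Cover.mkOfCovers M (fun _ => (cellDom D N (n := n) (m := m)).left)
      (fun w => (c w).left) hcover hoc
    refine (IsZariskiLocalAtSource.iff_of_openCover (P := @Smooth) 𝒰).mpr fun w => ?_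
    change Smooth ((c w).left ≫ K.hom)
    rw [Over.w]
    exact smooth_cellDom D N
  · refine isPreconnected_of_forall (pt' 1 s) fun q hq => ?_
    obtain ⟨w, y, rfl⟩ := hcover q
    refine ⟨connectedComponentIn (K.hom ⁻¹' {s}) (pt' 1 s), connectedComponentIn_subset _ _,
      mem_connectedComponentIn (hpt 1 s), ?_, isPreconnected_connectedComponentIn⟩
    let zero : 𝟙_ (Over S) ⟶ cellDom D N (n := n) (m := m) := lift (tuple n fun _ => 1) (lift 1 (tuple m fun _ => 1))
    have hz : zero ≫ c w ≫ k = w.1 := by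
      rw [hc, MonObj.comp_mul, ← Category.assoc, toUnit_unique (_ ≫ toUnit _) (𝟙 _), Category.id_comp, cellPrime, MonObj.comp_mul,
        MonObj.comp_mul]
      simp only [zero, lift_fst_assoc, lift_snd_assoc]
      simp [comp_prodMap, tuple_pr, List.ofFn_const]
    have hsub : (c w).left '' ((cellDom D N (n := n) (m := m)).hom ⁻¹' {s}) ⊆
        connectedComponentIn (K.hom ⁻¹' {s}) (pt' (zero ≫ c w) s) := by
      refine ((isPreconnected_fibre_cellDom D N en ep hD hbij s).image _
        (c w).left.continuous.continuousOn).subset_connectedComponentIn ⟨zero.left s, ?_, rfl⟩ ?_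
      · change (cellDom D N).hom _ = s
        rw [← Scheme.Hom.comp_apply, Over.w]; rfl
      · rintro _ ⟨y, hy, rfl⟩
        change K.hom _ = s
        rw [← Scheme.Hom.comp_apply, Over.w]; exact hy
    rw [connectedComponentIn_eq ((hM w.1 w.2).2 (zero ≫ c w) (by rw [Category.assoc, hz]) s)]
    refine hsub ⟨y, ?_, rfl⟩
    change (cellDom D N).hom y = s
    rw [← Over.w (c w), Scheme.Hom.comp_apply]
    exact hq

include b in
theorem killed [Nonempty S] : RedSub.KilledByCommutative k := by
  intro A _ h _ hcomm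
  haveI := D.finiteM
  obtain ⟨hfree, hfin⟩ := free_quotient N fun l x hl hx => (hN x).mpr fun a => by
    have := (hN _).mp hx a
    rw [map_zsmul, smul_eq_mul] at this
    exact (mul_eq_zero.mp this).resolve_left hl
  haveI := hfree
  haveI := hfin
  haveI := isReduced' D b
  have huh := u_comp_eq_one D h hcomm
  have hth := torus_comp_eq_one D h hcomm N hN
  obtain ⟨n, en, hen⟩ := exists_enum D (RedSub.negRoots D.P b)
  obtain ⟨m, ep, hep⟩ := exists_enum D (RedSub.posRoots D.P b)
  obtain ⟨hD, hbij⟩ := isCellData_of_base D b hen hep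
  let M : Submonoid (𝟙_ (Over S) ⟶ G) := Submonoid.closure (Set.range fun a : D.idx => oneGa S ≫ D.u a)
  have hM : ∀ w ∈ M, w ≫ f = 1 ∧ w ≫ h = 1 := fun w hw => by
    induction hw using Submonoid.closure_induction with
    | mem w hw =>
      obtain ⟨a, rfl⟩ := hw
      simp only [Category.assoc, hu, huh, MonObj.comp_one, and_self]
    | one => exact ⟨MonObj.one_comp f, MonObj.one_comp h⟩
    | mul x y _ _ hx hy =>
      exact ⟨by rw [MonObj.mul_comp, hx.1, hy.1, _root_.one_mul], by rw [MonObj.mul_comp, hx.2, hy.2, _root_.one_mul]⟩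
  choose c hc hoc hrange using fun w : M => exists_chart D N hN f hi hu k hk en ep hD hbij w.1 (hM w.1 w.2).1
  let 𝒰 : K.left.OpenCover := Scheme.Cover.mkOfCovers M (fun _ => (cellDom D N (n := n) (m := m)).left)
    (fun w => (c w).left) (fun q => by
      obtain ⟨w, hw, hq⟩ := exists_translate_monoid D b hen hep M (fun _ => oneGa S)
        (fun a _ => by rw [gaFn_oneGa]; exact isUnit_one)
        (fun a _ => Submonoid.subset_closure ⟨a, rfl⟩) (k.left q)
      exact ⟨⟨w, hw⟩, hrange ⟨w, hw⟩ q hq⟩) hoc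
  refine Over.OverMorphism.ext (Scheme.Cover.hom_ext 𝒰 _ _ fun w => ?_)
  change (c w).left ≫ (k ≫ h).left = (c w).left ≫ (1 : K ⟶ A).left
  rw [← Over.comp_left, ← Over.comp_left, ← Category.assoc, hc, MonObj.mul_comp, Category.assoc, (hM w.1 w.2).2,
    MonObj.comp_one, MonObj.comp_one, _root_.one_mul]
  refine congrArg _ ?_
  rw [cellPrime, MonObj.mul_comp, MonObj.mul_comp, prodMap_kill D huh en (fst _ _)]
  simp only [← Category.assoc] at hth ⊢
  rw [prodMap_kill D huh ep]
  simp only [Category.assoc] at hth ⊢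
  rw [hth, MonObj.comp_one, MonObj.comp_one, _root_.one_mul, _root_.mul_one]

end Groth.Agent.H21Split.Corad
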