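import Groth.Agent.H21Split.Corad.Normal
import Groth.Agent.H21Split.Bru.Real
import Groth.Agent.H21Split.Bru.CoradUse
import Groth.Agent.H21Split.Corad.Dim

/-!
The splitting of the derived group of a split group.
-/

open CategoryTheory MonoidalCategory CartesianMonoidalCategory MonObj GrpObj AlgebraicGeometry
open CategoryTheory.Limits

universe u

set_option autoImplicit false
set_option backward.isDefEq.respectTransparency false
set_option linter.style.haveILetI false
set_option linter.unusedSectionVars false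
set_option synthInstance.maxHeartbeats 400000
set_option maxHeartbeats 1000000

noncomputable section

namespace Groth.Agent.H21Split.Corad

variable {S : Scheme.{u}} {G : Over S} [GrpObj G] (D : Red.SplitRed G) (N : AddSubgroup D.M)
  (hN : ∀ x : D.M, x ∈ N ↔ ∀ a : D.idx, D.P.coroot a x = 0)

/-- the smaller torus inside the torus -/
abbrev tauT : Red.DS S (D.M ⧸ N) ⟶ D.T := Red.DSmap S (QuotientAddGroup.mk' N) ≫ D.split.inv.hom.hom

include hN in
theorem free_finite_quotient : Module.Free ℤ (D.M ⧸ N) ∧ Module.Finite ℤ (D.M ⧸ N) :=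
  haveI := D.finiteM
  free_quotient N fun l x hl hx => (hN x).mpr fun a => by
    have := (hN _).mp hx a
    rw [map_zsmul, smul_eq_mul] at this
    exact (mul_eq_zero.mp this).resolve_left hl

include hN in
theorem le_ker_coroot (a : D.idx) : N ≤ (D.P.coroot a).toAddMonoidHom.ker := fun x hx => (hN x).mp hx a

/-- a coroot on the smaller lattice -/
def corootQ (a : D.idx) : Module.Dual ℤ (D.M ⧸ N) :=
  (QuotientAddGroup.lift N (D.P.coroot a).toAddMonoidHom (le_ker_coroot D N hN a)).toIntLinearMap

theorem corootQ_mk (a : D.idx) (m : D.M) : corootQ D N hN a (QuotientAddGroup.mk' N m) = D.P.coroot a m := rfl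

theorem pairing_apply (m : D.M) (a : D.idx) : D.P.toLinearMap m (D.P.coroot a) = D.P.coroot a m := by
  rw [D.pairing_eq]
  rfl

/-- the root datum of the derived group -/
def quotPairing [Module.Free ℤ (D.M ⧸ N)] [Module.Finite ℤ (D.M ⧸ N)] :
    RootPairing D.idx ℤ (D.M ⧸ N) (Module.Dual ℤ (D.M ⧸ N)) where
  toLinearMap := Module.Dual.eval ℤ (D.M ⧸ N)
  root := ⟨fun a => QuotientAddGroup.mk' N (D.P.root a), fun a b h => by
    refine D.P.root.injective (sub_eq_zero.mp (eq_zero_of_mem_closure D N hN ?_ ?_))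
    · exact (QuotientAddGroup.eq_iff_sub_mem).mp h
    · exact AddSubgroup.sub_mem _ (AddSubgroup.subset_closure ⟨a, rfl⟩) (AddSubgroup.subset_closure ⟨b, rfl⟩)⟩
  coroot := ⟨fun a => corootQ D N hN a, fun a b h => D.P.coroot.injective (LinearMap.ext fun m =>
    LinearMap.congr_fun h (QuotientAddGroup.mk' N m))⟩
  root_coroot_two a := (pairing_apply D _ a).symm.trans (D.P.root_coroot_two a)
  reflectionPerm a := D.P.reflectionPerm a
  reflectionPerm_root a x := by
    change QuotientAddGroup.mk' N (D.P.root x) - D.P.coroot a (D.P.root x) • QuotientAddGroup.mk' N (D.P.root a) = _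
    rw [← map_zsmul, ← map_sub, ← pairing_apply D _ a, D.P.reflectionPerm_root]
    rfl
  reflectionPerm_coroot a x := by
    refine LinearMap.ext fun q => ?_
    obtain ⟨m, rfl⟩ := QuotientAddGroup.mk'_surjective N q
    change D.P.coroot x m - D.P.coroot x (D.P.root a) * D.P.coroot a m = D.P.coroot (D.P.reflectionPerm a x) m
    have h := LinearMap.congr_fun (D.P.reflectionPerm_coroot a x) m
    rw [LinearMap.sub_apply, LinearMap.smul_apply, smul_eq_mul, pairing_apply] at h
    exact h

theorem quotPairing_reflection [Module.Free ℤ (D.M ⧸ N)] [Module.Finite ℤ (D.M ⧸ N)] (a : D.idx) :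
    ((quotPairing D N hN).reflection a).toLinearMap.toAddMonoidHom.comp (QuotientAddGroup.mk' N) =
      (QuotientAddGroup.mk' N).comp (D.P.reflection a).toLinearMap.toAddMonoidHom := by
  refine AddMonoidHom.ext fun m => ?_
  change (quotPairing D N hN).reflection a (QuotientAddGroup.mk' N m) = QuotientAddGroup.mk' N (D.P.reflection a m)
  rw [RootPairing.reflection_apply, RootPairing.reflection_apply]
  change QuotientAddGroup.mk' N m - D.P.coroot a m • QuotientAddGroup.mk' N (D.P.root a) = _
  rw [← map_zsmul, ← map_sub]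
  congr 3
  exact (pairing_apply D m a).symm

/-- the properties needed for the splitting of the derived group -/
structure Facts {D' : Over S} [GrpObj D'] (d : D' ⟶ G) : Prop where
  closed : IsClosedImmersion d.left
  smooth : Smooth D'.hom
  torus : ∃ i' : Red.DS S (D.M ⧸ N) ⟶ D', i' ≫ d = tauT D N ≫ D.i
  root : ∀ a, ∃ v : Red.Ga S ⟶ D', v ≫ d = D.u a
  refl : ∀ a, ∃ w : 𝟙_ (Over S) ⟶ D', ∀ (X : Over S) (t : X ⟶ D.T),
    (toUnit X ≫ w ≫ d) * (t ≫ D.i) * (toUnit X ≫ w ≫ d)⁻¹ =
      t ≫ D.split.hom.hom.hom ≫ Red.DSmap S (D.P.reflection a).toLinearMap.toAddMonoidHom ≫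
        D.split.inv.hom.hom ≫ D.i
  fibre : ∀ s : S, Red.IsReductiveOver (AlgebraicClosure (S.residueField s)) (Red.geomFibre s D')
  maximal : ∀ (i' : Red.DS S (D.M ⧸ N) ⟶ D'), i' ≫ d = tauT D N ≫ D.i →
    ∀ (s : S) (T' : Over (Spec (CommRingCat.of (AlgebraicClosure (S.residueField s))))) [GrpObj T']
      (j : T' ⟶ Red.geomFibre s D') [IsMonHom j] [Mono j] (φ : Red.geomFibre s (Red.DS S (D.M ⧸ N)) ⟶ T'),
      Red.IsTorus T' → φ ≫ j = (Over.pullback (Red.geomPt s)).map i' → IsIso φ
  dim : ∀ s : S, topologicalKrullDim ↥(Red.geomFibre s D').left =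
    ((Module.finrank ℤ (D.M ⧸ N) + Fintype.card D.idx : ℕ) : WithBot ℕ∞)

variable {D' : Over S} [GrpObj D'] (d : D' ⟶ G) [IsMonHom d]

omit [GrpObj D'] in
theorem conj_comp {C : Type*} [Category C] [CartesianMonoidalCategory C] {X G H : C} [GrpObj G] [GrpObj H] (f : G ⟶ H)
    [IsMonHom f] (w z : X ⟶ G) : (w * z * w⁻¹) ≫ f = (w ≫ f) * (z ≫ f) * (w ≫ f)⁻¹ := by
  rw [MonObj.mul_comp, MonObj.mul_comp, GrpObj.inv_comp]

theorem facts_of_isEmpty (hS : IsEmpty S) : Facts D N d := by
  haveI := hS
  have he : ∀ X : Over S, IsEmpty X.left := fun X => Function.isEmpty X.hom.base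
  have hex : ∀ X Y : Over S, Nonempty (X ⟶ Y) := fun X Y =>
    haveI := he X
    ⟨Over.homMk ((isInitialOfIsEmpty (X := X.left)).to Y.left) ((isInitialOfIsEmpty (X := X.left)).hom_ext _ _)⟩
  have hsub : ∀ {X Y : Over S} (a b : X ⟶ Y), a = b := fun {X Y} a b =>
    haveI := he X
    Over.OverMorphism.ext ((isInitialOfIsEmpty (X := X.left)).hom_ext _ _)
  haveI := he G
  haveI := he D'
  haveI : IsIso d.left := inferInstance
  haveI : IsIso D'.hom := inferInstance
  exact ⟨inferInstance, inferInstance, ⟨(hex _ _).some, hsub _ _⟩, fun a => ⟨(hex _ _).some, hsub _ _⟩,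
    fun a => ⟨(hex _ _).some, fun _ _ => hsub _ _⟩, fun s => isEmptyElim s, fun _ _ s => isEmptyElim s,
    fun s => isEmptyElim s⟩

variable (hker : ∃ (C : Over S) (_ : GrpObj C) (f₀ : G ⟶ C), IsMonHom f₀ ∧
      (∀ (X : Over S) (a b : X ⟶ C), a * b = b * a) ∧ AlgGrp.IsKernel d f₀)
  (hkill : RedSub.KilledByCommutative d)
include hN hker hkill

theorem facts_of_nonempty [Nonempty S] : Facts D N d := by
  classical
  haveI := D.finiteM
  haveI := D.freeM
  obtain ⟨hfree, hfin⟩ := free_finite_quotient D N hN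
  haveI := hfree
  haveI := hfin
  obtain ⟨b⟩ := H21Red0.nonempty_base D
  haveI := isReduced' D b
  obtain ⟨f, hf, hi, hu⟩ := exists_corad D b (N := N) fun x hx => (hN x).mp hx
  haveI := hf
  obtain ⟨C, _, f₀, hf₀, hcomm, hd⟩ := hker
  haveI := hf₀
  obtain ⟨K, _, k, _, hk₀⟩ := exists_kernel_over f
  have hd' : d ≫ f = 1 := hkill _ f fun X x y => ds_comm _ x y
  have hk' : k ≫ f₀ = 1 := killed D b N hN f hi hu k hk₀ C f₀ hcomm
  have hk : AlgGrp.IsKernel d f := isKernel_of_kills f₀ f k d hd hk₀ hd' hk'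
  haveI := mono_k D N hN f hi hu d hk
  haveI : IsClosedImmersion d.left := by
    haveI := H21Diag.isAffineHom_DS S ↥N
    have hη : IsClosedImmersion η[Red.DS S ↥N].left :=
      haveI : IsClosedImmersion (η[Red.DS S ↥N].left ≫ (Red.DS S ↥N).hom) := by
        rw [Over.w]
        exact inferInstanceAs (IsClosedImmersion (𝟙 S))
      IsClosedImmersion.of_comp η[Red.DS S ↥N].left (Red.DS S ↥N).hom
    exact MorphismProperty.of_isPullback (P := @IsClosedImmersion) (hk.map (Over.forget S)).flip hη
  obtain ⟨hsm, hconn⟩ := smooth_connected D b N hN f hi hu d hk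
  haveI := hsm
  have hm : tauT D N ≫ coradT D N = 1 := mk'_coradT D N
  haveI : IsMonHom D.i := D.maximalTorus.1
  haveI : Mono D.i := D.maximalTorus.2.1
  have hlift : ∀ {X : Over S} (z : X ⟶ G), z ≫ f = 1 → ∃ x, x ≫ d = z := fun z hz =>
    lift_k D N hN f hi hu d hk z hz
  refine ⟨inferInstance, hsm, hlift _ (by rw [Category.assoc, hi, hm]), fun a => hlift _ (hu a), fun a => ?_,
    fun s => isReductiveOver_fibre D N hN f hi hu d hk hconn s, fun i' hi' s T' _ j _ _ φ hT' hφ => ?_, fun s => ?_⟩
  · obtain ⟨p, q, r, hpqr⟩ := exists_nS D a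
    obtain ⟨w, hw⟩ := hlift (nS D a) (by
      rw [hpqr]
      exact kill_mul f _ _ (kill_mul f _ _ (by rw [Category.assoc, hu, MonObj.comp_one])
        (by rw [Category.assoc, hu, MonObj.comp_one])) (by rw [Category.assoc, hu, MonObj.comp_one]))
    exact ⟨w, fun X t => by rw [hw]; exact acts_reflection_iff.mp (acts_nS D a) X t⟩
  · haveI : IsClosedImmersion i'.left := by
      haveI := isAffineHom_hom D
      haveI := smooth_hom D
      haveI : AddGroup.FG (D.M ⧸ N) := Module.Finite.iff_addGroup_fg.mp hfin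
      haveI : Mono (Red.DSmap S (QuotientAddGroup.mk' N)) :=
        H18Torsor.DiagExact.mono_DSmap _ (QuotientAddGroup.mk'_surjective N)
      haveI : IsMonHom (Red.DSmap S (QuotientAddGroup.mk' N)) := H21Diag.isMonHom_DSmap S _
      haveI : Mono D.split.inv.hom.hom := ⟨fun x y hxy => by
        have := congrArg (· ≫ D.split.hom.hom.hom) hxy
        simpa only [Category.assoc, split_inv_hom, Category.comp_id] using this⟩
      haveI : IsClosedImmersion (i'.left ≫ d.left) := by
        rw [← Over.comp_left, hi']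
        exact H21Mono.isClosedImmersion_of_mono_DS (tauT D N ≫ D.i)
      exact IsClosedImmersion.of_comp i'.left d.left
    exact isMaximal_fibre D N hN f hi hu d hk s i' hi' j φ hT' hφ
  · obtain ⟨n, en, hen⟩ := exists_enum D (RedSub.negRoots D.P b)
    obtain ⟨m, ep, hep⟩ := exists_enum D (RedSub.posRoots D.P b)
    obtain ⟨hD, hbij⟩ := isCellData_of_base D b hen hep
    obtain ⟨c, -, hc, -⟩ := exists_chart D N hN f hi hu d hk en ep hD hbij 1 (MonObj.one_comp f)
    haveI := hc
    refine (dim_of_cellDS (S := S) (D.M ⧸ N) (Red.geomPt s) hconn c).trans ?_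
    have hcard : n + m = Fintype.card D.idx := by
      have h := Fintype.card_of_bijective hbij
      simpa using h
    rw [ringKrullDim_monoidAlgebra, hcard]
    push_cast
    rfl

theorem facts : Facts D N d :=
  (isEmpty_or_nonempty S).elim (facts_of_isEmpty D N d) fun _ => facts_of_nonempty D N hN d hker hkill

/-- **The splitting of the derived group.** -/
theorem exists_splitRed :
    ∃ (Dd : Red.SplitRed D') (τ : Dd.T ⟶ D.T) (eidx : Dd.idx ≃ D.idx) (em : Dd.M ≃+ D.M ⧸ N),
      τ ≫ D.i = Dd.i ≫ d ∧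
      τ ≫ D.split.hom.hom.hom =
        Dd.split.hom.hom.hom ≫ Red.DSmap S (em.symm.toAddMonoidHom.comp (QuotientAddGroup.mk' N)) ∧
      (∀ a' : Dd.idx, em (Dd.P.root a') = QuotientAddGroup.mk' N (D.P.root (eidx a'))) ∧
      (∀ a' : Dd.idx, Dd.u a' ≫ d = D.u (eidx a')) := by
  classical
  obtain ⟨hfree, hfin⟩ := free_finite_quotient D N hN
  haveI := hfree
  haveI := hfin
  obtain ⟨hcl, hsm, ⟨i', hi'⟩, hroot, hrefl, hfib, hmax, hdim⟩ := facts D N hN d hker hkill
  haveI := hcl
  haveI : Mono d := Over.mono_of_mono_left _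
  choose v hv using hroot
  haveI : IsMonHom D.i := D.maximalTorus.1
  haveI : Mono D.i := D.maximalTorus.2.1
  haveI : IsMonHom (Red.DSmap S (QuotientAddGroup.mk' N)) := H21Diag.isMonHom_DSmap S _
  haveI : Mono (Red.DSmap S (QuotientAddGroup.mk' N)) :=
    H18Torsor.DiagExact.mono_DSmap _ (QuotientAddGroup.mk'_surjective N)
  haveI : Mono D.split.inv.hom.hom := ⟨fun x y hxy => by
    have := congrArg (· ≫ D.split.hom.hom.hom) hxy
    simpa only [Category.assoc, split_inv_hom, Category.comp_id] using this⟩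
  haveI hi'm : IsMonHom i' := by
    haveI : IsMonHom (i' ≫ d) := by rw [hi']; infer_instance
    exact H21Diag.isMonHom_of_comp_mono i' d
  haveI hi'M : Mono i' := by
    haveI : Mono (i' ≫ d) := by rw [hi']; infer_instance
    exact mono_of_mono i' d
  haveI := isAffineHom_hom D
  haveI : IsAffineHom D'.hom := by rw [← Over.w d]; infer_instance
  have hT : Red.IsTorus (Red.DS S (D.M ⧸ N)) := H21Red0.isTorus_split (Iso.refl (Grp.mk (Red.DS S (D.M ⧸ N))))
  have hmT : Red.IsMaximalTorus i' := ⟨hi'm, hi'M, hT, hmax i' hi'⟩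
  let Dd : Red.SplitRed D' :=
    { T := Red.DS S (D.M ⧸ N)
      i := i'
      M := D.M ⧸ N
      idx := D.idx
      P := quotPairing D N hN
      pairing_eq := rfl
      u := v
      reductive := ⟨inferInstance, hsm, hfib⟩
      maximalTorus := hmT
      split := Iso.refl _
      rootHom := fun a => by
        obtain ⟨hu1, hu2, hu3⟩ := D.rootHom a
        haveI : IsMonHom (v a) := by
          haveI : IsMonHom (v a ≫ d) := by rw [hv a]; exact hu1
          exact H21Diag.isMonHom_of_comp_mono (v a) d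
        refine ⟨inferInstance, ?_, fun X t x => ?_⟩
        · haveI : IsClosedImmersion ((v a).left ≫ d.left) := by rw [← Over.comp_left, hv a]; exact hu2
          exact IsClosedImmersion.of_comp (v a).left d.left
        · obtain ⟨y, hy, hy2⟩ := hu3 X (t ≫ tauT D N) x
          refine ⟨y, ?_, ?_⟩
          · rw [← cancel_mono d]
            rw [conj_comp]
            simp only [Category.assoc, hi', hv a]
            simpa only [Category.assoc] using hy
          · rw [hy2]
            congr 2
            simp only [tauT, Category.assoc, reassoc_of% (split_inv_hom D)]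
            change t ≫ Red.DSmap S (QuotientAddGroup.mk' N) ≫ Red.DSmap S (zmultiplesHom D.M (D.P.root a)) =
              t ≫ 𝟙 _ ≫ Red.DSmap S (zmultiplesHom (D.M ⧸ N) (QuotientAddGroup.mk' N (D.P.root a)))
            rw [R2.DSmap_comp, Category.id_comp]
            congr 2
      refl := fun a => by
        obtain ⟨w, hw⟩ := hrefl a
        refine ⟨w, fun X t => ?_⟩
        rw [← cancel_mono d]
        rw [conj_comp]
        simp only [Category.assoc, hi']
        change _ = t ≫ 𝟙 _ ≫ Red.DSmap S _ ≫ 𝟙 _ ≫ _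
        rw [Category.id_comp, Category.id_comp]
        have h := hw X (t ≫ tauT D N)
        simp only [tauT, Category.assoc, reassoc_of% (split_inv_hom D)] at h ⊢
        rw [h, reassoc_of% (R2.DSmap_comp (S := S)), reassoc_of% (R2.DSmap_comp (S := S)),
          quotPairing_reflection]
      dim_fibre := hdim }
  refine ⟨Dd, tauT D N, Equiv.refl _, AddEquiv.refl _, hi'.symm, ?_, fun a => rfl, hv⟩
  change tauT D N ≫ D.split.hom.hom.hom =
    𝟙 _ ≫ Red.DSmap S ((AddEquiv.refl (D.M ⧸ N)).symm.toAddMonoidHom.comp (QuotientAddGroup.mk' N))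
  rw [Category.id_comp, tauT, Category.assoc, split_inv_hom, Category.comp_id]
  rfl

end Groth.Agent.H21Split.Corad
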